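import Mathlib
import Cfsg.Prelude.Def_DegreeGraph
import Cfsg.Agent.Blocks.Basic
import Cfsg.Agent.Characters.Core
import Cfsg.Agent.Characters.Clifford
import Cfsg.Agent.Characters.Linear
import Cfsg.Agent.CharDeep.Twist
import Cfsg.Agent.CharDeep.PowerDegrees
import Cfsg.Agent.CharDeep.CliffordCorr
import Cfsg.Agent.S0135
import Cfsg.Agent.S0193
import Cfsg.Agent.S0856
import Cfsg.Agent.S0887
set_option linter.all false

/-!
# Character degrees and normal subgroups: basic tools

* `mem_charDegrees` : membership in `charDegrees G`;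
* `charDegrees_comp` : degrees of a quotient are degrees;
* `exists_constituent` : constituents of the restriction to a normal subgroup, with the degree
  ratio theorem;
* `gallagher` : if `χ ∈ Irr(G)` restricts irreducibly to the kernel of a surjection `π : G →* Q`
  and `β ∈ Irr(Q)`, then `χ(1) β(1)` is a degree;
* `induced_degree` : a character of a normal subgroup whose inertia group is that subgroup induces
  irreducibly;
* `twist_ne` : `ψ λ ≠ ψ` when `λ ≠ 1` has `p`-power order and `p ∤ ψ(1)`.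
-/

set_option autoImplicit false

namespace Cfsg.Agent.H681.DegBasic

open Cfsg Cfsg.Agent.Characters.Core

/-- Membership in the set of character degrees. -/
theorem mem_charDegrees {G : Type*} [Group G] {n : ℕ} :
    n ∈ charDegrees G ↔ ∃ χ : G → ℂ, IsIrrCharacter G χ ∧ χ 1 = n := by
  constructor
  · rintro ⟨χ, rfl⟩
    exact ⟨χ, χ.2, Cfsg.Agent.Blocks.Basic.irr_one_eq_charDegree χ.2⟩
  · rintro ⟨χ, hχ, h⟩
    exact ⟨⟨χ, hχ⟩, Cfsg.Agent.Blocks.Basic.charDegree_of_eq h⟩

/-- Degrees are positive. -/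
theorem pos_of_mem {G : Type*} [Group G] {n : ℕ} (h : n ∈ charDegrees G) : 0 < n := by
  obtain ⟨χ, hχ, h⟩ := mem_charDegrees.1 h
  obtain ⟨m, hm, hm'⟩ := isIrr_apply_one hχ
  rw [h] at hm'
  have : n = m := by exact_mod_cast hm'
  omega

theorem one_mem {G : Type*} [Group G] : 1 ∈ charDegrees G :=
  mem_charDegrees.2 ⟨1, isIrr_one, by simp⟩

/-- The degrees of a quotient are degrees. -/
theorem charDegrees_comp {G Q : Type*} [Group G] [Group Q] (π : G →* Q)
    (hπ : Function.Surjective π) {n : ℕ} (h : n ∈ charDegrees Q) : n ∈ charDegrees G := by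
  obtain ⟨χ, hχ, h⟩ := mem_charDegrees.1 h
  exact mem_charDegrees.2 ⟨χ ∘ π, isIrr_comp π hπ hχ, by simpa using h⟩

/-- Degrees divide the order of the group. -/
theorem dvd_card {G : Type*} [Group G] [Finite G] {n : ℕ} (h : n ∈ charDegrees G) :
    n ∣ Nat.card G := by
  obtain ⟨χ, ⟨m, ρ, hρ, rfl⟩, h⟩ := mem_charDegrees.1 h
  rw [Representation.char_one] at h
  have h' : Module.finrank ℂ (Fin m → ℂ) = n := by exact_mod_cast h
  rw [← h']
  exact S0135.result ρ

/-- Every irreducible character of `G` has a constituent in the restriction to a normal subgroup,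
whose degree divides the degree, the quotient dividing the index. -/
theorem exists_constituent {G : Type*} [Group G] [Fintype G] (N : Subgroup G) [N.Normal]
    [Fintype N] {χ : G → ℂ} (hχ : IsIrrCharacter G χ) {n : ℕ} (hn : χ 1 = n) :
    ∃ (ψ : N → ℂ) (d : ℕ), IsIrrCharacter N ψ ∧ ψ 1 = d ∧ classInner (fun x : N => χ x) ψ ≠ 0 ∧
      d ∣ n ∧ n / d ∣ N.index := by
  classical
  have := finite_irr (G := N)
  have := Fintype.ofFinite (IrrCharacter N)
  have hres : IsCharacter N (fun x : N => χ x) :=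
    Cfsg.Agent.Characters.Clifford.isCharacter_restrict N (isIrr_isCharacter hχ)
  have hexp := classFunction_eq_sum (isCharacter_isClassFunction hres)
  obtain ⟨ψ, hψ⟩ : ∃ ψ : IrrCharacter N, classInner (fun x : N => χ x) (ψ : N → ℂ) ≠ 0 := by
    by_contra hcon
    push Not at hcon
    have h1 := congrFun hexp 1
    simp only [hcon, zero_smul, Finset.sum_const_zero, Pi.zero_apply] at h1
    exact isIrr_apply_one_ne_zero hχ h1
  obtain ⟨d, hd, hd'⟩ := isIrr_apply_one ψ.2
  obtain ⟨h1, h2⟩ := S0887.result N χ hχ ψ ψ.2 hψ n d hn hd'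
  exact ⟨ψ, d, ψ.2, hd', hψ, h1, h2⟩

/-- **Gallagher.** If the irreducible character `χ` of `G` has a constituent of the same degree in
its restriction to a normal subgroup `K`, contained in the kernel of the surjection `π : G →* Q`,
then `χ(1) β(1)` is a character degree of `G` for every irreducible character `β` of `Q`. -/
theorem gallagher {G Q : Type*} [Group G] [Group Q] [Finite G] (π : G →* Q)
    (hπ : Function.Surjective π) (K : Subgroup G) [hK : K.Normal] (hKπ : ∀ k ∈ K, π k = 1)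
    {χ : G → ℂ} (hχ : IsIrrCharacter G χ) (hχK : IsIrrCharacter K (fun k : K => χ k))
    {n b : ℕ} (hn : χ 1 = n) (hb : b ∈ charDegrees Q) : b * n ∈ charDegrees G := by
  classical
  have := Fintype.ofFinite G
  have := Fintype.ofFinite K
  obtain ⟨β, hβ, hb⟩ := mem_charDegrees.1 hb
  have hχc : IsClassFunction G χ := isIrr_isClassFunction hχ
  have hone : ((fun _ => 1) * (fun k : K => χ k) : K → ℂ) = fun k : K => χ k := by
    funext k; simp
  have key := S0856.result K (fun _ => 1) (fun k : K => χ k) isIrr_one hχK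
    (fun g n => rfl) (fun g n => hχc n g) (by rw [hone]; exact hχK) χ hχ (fun n => rfl)
  have hmem : (β ∘ π) ∈ {β : G → ℂ | IsIrrCharacter G β ∧
      classInner (indFun K (fun _ => 1)) β ≠ 0} := by
    refine ⟨isIrr_comp π hπ hβ, ?_⟩
    rw [Cfsg.Agent.CharactersDeep.NormalInd.classInner_indFun K (fun _ => 1) _
      (isIrr_isClassFunction (isIrr_comp π hπ hβ))]
    have h1 : (fun k : K => (β ∘ π) (k : G)) = (b : ℂ) • (fun _ => 1 : K → ℂ) := by
      funext k
      simp [hKπ k k.2, hb]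
    rw [h1, classInner_smul_right]
    have h2 : classInner (fun _ => 1 : K → ℂ) (fun _ => 1 : K → ℂ) = 1 :=
      classInner_irr_self isIrr_one
    rw [h2, mul_one]
    simp only [Complex.conj_natCast, ne_eq, Nat.cast_eq_zero]
    rintro rfl
    exact isIrr_apply_one_ne_zero hβ (by simpa using hb)
  have h := (key.mapsTo hmem).1
  refine mem_charDegrees.2 ⟨_, h, ?_⟩
  simp [hb, hn]

/-- If a constituent of the restriction to a normal subgroup has the same degree, the restriction
is that constituent. -/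
theorem restrict_eq_of_degree {G : Type*} [Group G] [Fintype G] (N : Subgroup G)
    [Fintype N] {χ : G → ℂ} (hχ : IsCharacter G χ) {ψ : N → ℂ} (hψ : IsIrrCharacter N ψ)
    (h : classInner (fun x : N => χ x) ψ ≠ 0) (h1 : χ 1 = ψ 1) :
    (fun x : N => χ x) = ψ := by
  classical
  have := finite_irr (G := N)
  have := Fintype.ofFinite (IrrCharacter N)
  have hres : IsCharacter N (fun x : N => χ x) :=
    Cfsg.Agent.Characters.Clifford.isCharacter_restrict N hχ
  obtain ⟨m, hm⟩ := exists_nat_comb hres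
  have hmψ : m ⟨ψ, hψ⟩ ≠ 0 := by
    intro h0
    apply h
    rw [hm]
    have := classInner_sum_nsmul_irr m (⟨ψ, hψ⟩ : IrrCharacter N)
    rw [h0, Nat.cast_zero] at this
    exact this
  choose D hD hD' using fun φ : IrrCharacter N => isIrr_apply_one φ.2
  have hsum : ∑ φ : IrrCharacter N, m φ * D φ = D ⟨ψ, hψ⟩ := by
    have h2 := congrFun hm 1
    rw [Finset.sum_apply] at h2
    have h3 : χ 1 = ((∑ φ : IrrCharacter N, m φ * D φ : ℕ) : ℂ) := by
      push_cast
      refine Eq.trans h2 (Finset.sum_congr rfl fun φ _ => ?_)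
      rw [Pi.smul_apply, nsmul_eq_mul, hD']
    rw [h1] at h3
    have h4 := hD' ⟨ψ, hψ⟩
    have h5 : ((∑ φ : IrrCharacter N, m φ * D φ : ℕ) : ℂ) = (D ⟨ψ, hψ⟩ : ℂ) := by
      rw [← h3]; exact h4
    exact_mod_cast h5
  rw [← Finset.add_sum_erase _ _ (Finset.mem_univ (⟨ψ, hψ⟩ : IrrCharacter N))] at hsum
  have hD0 := hD ⟨ψ, hψ⟩
  have h6 : m ⟨ψ, hψ⟩ = 1 ∧ ∑ φ ∈ Finset.univ.erase (⟨ψ, hψ⟩ : IrrCharacter N), m φ * D φ = 0 := by
    have h7 : 1 ≤ m ⟨ψ, hψ⟩ := Nat.one_le_iff_ne_zero.2 hmψ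
    have h8 : m ⟨ψ, hψ⟩ * D ⟨ψ, hψ⟩ ≤ D ⟨ψ, hψ⟩ := by omega
    have h9 : m ⟨ψ, hψ⟩ = 1 := by
      by_contra hne
      have : 2 * D ⟨ψ, hψ⟩ ≤ m ⟨ψ, hψ⟩ * D ⟨ψ, hψ⟩ := Nat.mul_le_mul_right _ (by omega)
      omega
    refine ⟨h9, ?_⟩
    rw [h9] at hsum
    omega
  rw [hm, ← Finset.add_sum_erase _ _ (Finset.mem_univ (⟨ψ, hψ⟩ : IrrCharacter N)), h6.1, one_smul]
  have h10 : ∑ φ ∈ Finset.univ.erase (⟨ψ, hψ⟩ : IrrCharacter N), m φ • (φ : N → ℂ) = 0 := by
    refine Finset.sum_eq_zero fun φ hφ => ?_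
    have h11 := (Finset.sum_eq_zero_iff.1 h6.2) φ hφ
    rcases Nat.mul_eq_zero.1 h11 with h12 | h12
    · rw [h12, zero_smul]
    · exact absurd h12 (hD φ).ne'
  rw [h10, add_zero]

/-- A character of a normal subgroup with inertia group equal to that subgroup induces to an
irreducible character: the degree is the index times the degree. -/
theorem induced_degree {G : Type*} [Group G] [Finite G] (N : Subgroup G) [hN : N.Normal]
    {θ : N → ℂ} (hθ : IsIrrCharacter N θ) {d : ℕ} (hd : θ 1 = d)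
    (hin : ∀ g : G, (∀ n : N, θ ⟨g * n * g⁻¹, hN.conj_mem n n.2 g⟩ = θ n) → g ∈ N) :
    N.index * d ∈ charDegrees G := by
  classical
  have := Fintype.ofFinite G
  have := Fintype.ofFinite N
  have hcl := isIrr_isClassFunction hθ
  have h := S0193.result N θ hθ
  have hcard : Nat.card {g : G // ∀ h : N, θ ⟨g * h * g⁻¹, hN.conj_mem h h.2 g⟩ = θ h} =
      Nat.card N := by
    refine Nat.card_congr (Equiv.subtypeEquivRight fun g => ⟨hin g, fun hg n => ?_⟩)
    exact hcl n ⟨g, hg⟩
  rw [hcard] at h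
  have hne : (Nat.card N : ℂ) ≠ 0 := by exact_mod_cast Nat.card_pos.ne'
  have h1 : classInner (indFun N θ) (indFun N θ) = 1 :=
    mul_left_cancel₀ hne (by rw [h, mul_one])
  have hirr := isIrr_of_classInner_self
    (Cfsg.Agent.CharDeep.CliffordCorr.isCharacter_indFun N (isIrr_isCharacter hθ)) h1
  refine mem_charDegrees.2 ⟨_, hirr, ?_⟩
  rw [indFun_apply]
  have h2 : ∀ x : G, extendByZero N θ (x⁻¹ * 1 * x) = d := by
    intro x
    have : x⁻¹ * 1 * x = 1 := by group
    rw [this, extendByZero_of_mem N θ N.one_mem, ← hd]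
    rfl
  simp only [h2, Finset.sum_const, Finset.card_univ, nsmul_eq_mul]
  rw [← Nat.card_eq_fintype_card, ← N.index_mul_card]
  push_cast
  field_simp

/-- If `p ∤ ψ(1)` and `λ` is a linear character of `p`-power order with `ψ λ = ψ` then
`λ = 1`. -/
theorem twist_eq_one {N : Type*} [Group N] [Finite N] {ψ : N → ℂ} (hψ : IsIrrCharacter N ψ)
    {d p m : ℕ} (hd : ψ 1 = d) (hpd : d.Coprime p) (l : N →* ℂˣ)
    (hl : ∀ n, l n ^ p ^ m = 1) (h : ∀ n, ψ n * (l n : ℂ) = ψ n) : l = 1 := by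
  obtain ⟨k, ρ, hρ, rfl⟩ := hψ
  have hk : Module.finrank ℂ (Fin k → ℂ) = d := by
    rw [Representation.char_one] at hd
    exact_mod_cast hd
  have h1 : (Cfsg.Agent.CharDeep.Twist.twist l ρ).character = ρ.character := by
    funext g
    rw [Cfsg.Agent.CharDeep.Twist.twist_character, mul_comm]
    exact h g
  obtain ⟨e, he⟩ := Cfsg.Agent.CharDeep.SameChar.exists_linearEquiv ρ
    (Cfsg.Agent.CharDeep.Twist.twist l ρ) hρ h1
  ext g
  have h2 := Cfsg.Agent.CharDeep.SameChar.det_eq_of_linearEquiv ρ _ e he g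
  rw [Cfsg.Agent.CharDeep.Twist.twist_det, hk] at h2
  have h3 : LinearMap.det (ρ g) ≠ 0 := by
    have h4 := Cfsg.Agent.CharDeep.Twist.detHom_apply ρ g
    rw [← h4]
    exact Units.ne_zero _
  have h5 : (l g : ℂ) ^ d = 1 := mul_right_cancel₀ h3 (by rw [h2, one_mul])
  have h6 : l g ^ d = 1 := by
    ext
    simpa using h5
  have h7 : orderOf (l g) ∣ d := orderOf_dvd_of_pow_eq_one h6
  have h8 : orderOf (l g) ∣ p ^ m := orderOf_dvd_of_pow_eq_one (hl g)
  have h9 : orderOf (l g) = 1 := Nat.eq_one_of_dvd_coprimes (hpd.pow_right m) h7 h8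
  rw [orderOf_eq_one_iff] at h9
  rw [h9]
  rfl

end Cfsg.Agent.H681.DegBasic
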