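import Mathlib
import Cfsg.Prelude.Def_CaseTheorems
import Cfsg.Prelude.Def_Local
import Cfsg.Agent.SignalizersComponents.Components
import Cfsg.Agent.SignalizersComponents.EvenComponent
import Cfsg.Agent.SignalizersComponents.PCompCore
import Cfsg.Agent.SignalizersComponents.CompOrbit
import Cfsg.Agent.TwoFusion.FStarControl
import Cfsg.Agent.Lib.Cores
import Cfsg.Agent.S1317
import Cfsg.Agent.PLocal.CoprimeLift
import Cfsg.Agent.KFacts.RgdRigid
import Cfsg.Agent.KFacts.RgdField
import Cfsg.Agent.FastGrp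
import Cfsg.Agent.Prune
set_option linter.all false

section
prune_inst 0x7f00000000000000000000000000000000000000000000000000000000000000000000000000000000000000000000000000000000000000000000000000000000000000000000000000000000000000003fffffffffffffffffffffffffffbeffbdffffffff

-- part: H142/GmnPC
section
set_option linter.all false
open scoped Cfsg.Agent.FastGrp

/-!
# Groups in which the normaliser of a Sylow subgroup is `P * C(P)`

`G` finite, `O_{p'}(G) = 1`, `P` a Sylow `p`-subgroup with `N_G(P) = P C_G(P)`.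

* `row_false`: no component `K` of `G` has the property `Row p (K/Z(K))` (the non-centralising form of the
  Guralnick-Malle-Navarro rows).
* `self_normalizing`: if every component `K` has the property `CentP p (K/Z(K))` (a `p'`-automorphism
  centralising a Sylow `p`-subgroup is trivial), then `C_G(P) ≤ P`.
-/

set_option autoImplicit false
set_option linter.unusedSectionVars false

open Cfsg Subgroup
open scoped Pointwise commutatorElement

namespace Cfsg.Agent.H142.GmnPC

/-- Row of the table: for every `p`-subgroup `A` of `Aut S` containing the inner automorphisms induced by a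
Sylow `p`-subgroup of `S`, some `p'`-element `h` of `S` normalises but does not centralise `A`. -/
def Row (p : ℕ) (S : Type*) [Group S] : Prop :=
  ∀ A : Subgroup (MulAut S), IsPGroup p A → (∃ Q : Sylow p S, (Q : Subgroup S).map MulAut.conj ≤ A) →
    ∃ h : S, ¬ p ∣ orderOf h ∧ MulAut.conj h ∈ normalizer (A : Set (MulAut S)) ∧
      MulAut.conj h ∉ centralizer (A : Set (MulAut S))

/-- `p'`-automorphisms centralising a Sylow `p`-subgroup are trivial. -/
def CentP (p : ℕ) (S : Type*) [Group S] : Prop :=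
  ∀ (Q : Sylow p S) (α : MulAut S), ¬ p ∣ orderOf α → (∀ x ∈ Q, α x = x) → α = 1

/-- the automorphism of `K/Z(K)` induced by an automorphism of `K` -/
noncomputable def autQ (K : Type*) [Group K] : MulAut K →* MulAut (K ⧸ center K) where
  toFun f := QuotientGroup.congr (center K) (center K) f
    (Subgroup.characteristic_iff_map_eq.mp inferInstance f)
  map_one' := by
    ext x
    obtain ⟨x, rfl⟩ := QuotientGroup.mk_surjective x
    rfl
  map_mul' f g := by
    ext x
    obtain ⟨x, rfl⟩ := QuotientGroup.mk_surjective x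
    rfl

@[simp] theorem autQ_mk {K : Type*} [Group K] (f : MulAut K) (x : K) :
    autQ K f (x : K ⧸ center K) = (f x : K) := rfl

/-- the action of `N_G(K)` on `K/Z(K)` -/
noncomputable def act {G : Type*} [Group G] (K : Subgroup G) :
    normalizer (K : Set G) →* MulAut (K ⧸ center K) :=
  (autQ K).comp K.normalizerMonoidHom

theorem act_mk {G : Type*} [Group G] (K : Subgroup G) (y : normalizer (K : Set G)) (x : K) :
    act K y (x : K ⧸ center K) = (⟨y * x * (y : G)⁻¹, (mem_normalizer_iff.mp y.2 x).mp x.2⟩ : K) := rfl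

theorem act_of_mem {G : Type*} [Group G] (K : Subgroup G) (y : normalizer (K : Set G)) (hy : (y : G) ∈ K) :
    act K y = MulAut.conj ((⟨y, hy⟩ : K) : K ⧸ center K) := by
  ext x
  obtain ⟨x, rfl⟩ := QuotientGroup.mk_surjective x
  rfl

/-- a `p'`-element has a lift -/
theorem exists_lift {K L : Type*} [Group K] [Finite K] [Group L] {p : ℕ} [Fact p.Prime] (π : K →* L)
    (hπ : Function.Surjective π) (h : L) (hh : ¬ p ∣ orderOf h) :
    ∃ g : K, π g = h ∧ ¬ p ∣ orderOf g := by
  obtain ⟨g, rfl⟩ := hπ h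
  have hp : p.Prime := Fact.out
  obtain ⟨a, n, hn, hgn⟩ := Nat.exists_eq_pow_mul_and_not_dvd (orderOf_pos g).ne' p hp.ne_one
  have hd : orderOf (π g) ∣ n := by
    have h1 : orderOf (π g) ∣ p ^ a * n := hgn ▸ orderOf_map_dvd π g
    exact (Nat.Coprime.pow_right a ((Nat.Prime.coprime_iff_not_dvd hp).mpr hh).symm).dvd_of_dvd_mul_left h1
  have hc : Nat.Coprime (p ^ a) n := Nat.Coprime.pow_left a ((Nat.Prime.coprime_iff_not_dvd hp).mpr hn)
  obtain ⟨m, hm1, hm2⟩ := Nat.chineseRemainder hc 0 1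
  refine ⟨g ^ m, ?_, ?_⟩
  · rw [map_pow]
    have h1 : m ≡ 1 [MOD orderOf (π g)] := hm2.of_dvd hd
    have := pow_eq_pow_iff_modEq.mpr h1
    rw [this, pow_one]
  · intro hpd
    have h2 : orderOf (g ^ m) ∣ n := by
      apply orderOf_dvd_of_pow_eq_one
      rw [← pow_mul]
      apply orderOf_dvd_iff_pow_eq_one.mp
      rw [hgn]
      exact Nat.mul_dvd_mul_right ((Nat.modEq_zero_iff_dvd).mp hm1) n
    exact hn (hpd.trans h2)

/-- `p'`-elements of `A C(A)` centralise the `p`-group `A` -/
theorem mem_centralizer_of_mul {X : Type*} [Group X] {p : ℕ} [Fact p.Prime] {A : Subgroup X} [Finite X]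
    (hA : IsPGroup p A) {x a c : X} (ha : a ∈ A) (hc : c ∈ centralizer (A : Set X)) (hx : x = a * c)
    (hxp : ¬ p ∣ orderOf x) : x ∈ centralizer (A : Set X) := by
  have hcomm : Commute a c := mem_centralizer_iff.mp hc a ha
  obtain ⟨k, hk⟩ := hA.exists_card_eq
  have h1 : x ^ (p ^ k) ∈ centralizer (A : Set X) := by
    rw [hx, hcomm.mul_pow]
    have h2 : a ^ (p ^ k) = 1 := by
      have := pow_card_eq_one' (x := (⟨a, ha⟩ : A))
      rw [hk] at this
      exact congrArg Subtype.val this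
    rw [h2, one_mul]
    exact pow_mem hc _
  have hcop : Nat.Coprime (p ^ k) (orderOf x) :=
    Nat.Coprime.pow_left k ((Nat.Prime.coprime_iff_not_dvd Fact.out).mpr hxp)
  have h3 : x ∈ zpowers (x ^ (p ^ k)) := by
    obtain ⟨m, hm⟩ := exists_pow_eq_self_of_coprime hcop
    exact ⟨m, by simpa using hm⟩
  exact (zpowers_le.mpr h1) h3

/-- Chinese remainder for pairwise commuting subgroups -/
theorem exists_prod {G : Type*} [Group G] (I : Finset (Subgroup G))
    (hI : ∀ L ∈ I, ∀ L' ∈ I, L ≠ L' → L ≤ centralizer (L' : Set G)) (f : Subgroup G → G)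
    (hf : ∀ L ∈ I, f L ∈ L) (T : Subgroup G) (hT : ∀ L ∈ I, f L ∈ T) :
    ∃ w : G, w ∈ T ∧ w ∈ (⨆ L ∈ I, L) ∧ ∀ L ∈ I, (f L)⁻¹ * w ∈ centralizer (L : Set G) := by
  classical
  induction I using Finset.induction_on with
  | empty => exact ⟨1, T.one_mem, one_mem _, by simp⟩
  | insert K J hK ih =>
    obtain ⟨w, hwT, hwJ, hw⟩ := ih (fun L hL L' hL' => hI L (Finset.mem_insert_of_mem hL) L'
      (Finset.mem_insert_of_mem hL')) (fun L hL => hf L (Finset.mem_insert_of_mem hL))
      (fun L hL => hT L (Finset.mem_insert_of_mem hL))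
    have hKmem : K ∈ insert K J := Finset.mem_insert_self K J
    have hle : (⨆ L ∈ J, L) ≤ (⨆ L ∈ insert K J, L) :=
      iSup₂_le fun L hL => le_iSup₂_of_le L (Finset.mem_insert_of_mem hL) le_rfl
    refine ⟨f K * w, T.mul_mem (hT K hKmem) hwT, mul_mem ?_ (hle hwJ), ?_⟩
    · exact (le_iSup₂_of_le K hKmem le_rfl : K ≤ (⨆ L ∈ insert K J, L)) (hf K hKmem)
    · intro L hL
      rcases Finset.mem_insert.mp hL with rfl | hLJ
      · rw [inv_mul_cancel_left]
        have h1 : (⨆ L' ∈ J, L') ≤ centralizer (L : Set G) := by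
          refine iSup₂_le fun L' hL' => hI L' (Finset.mem_insert_of_mem hL') L hKmem ?_
          rintro rfl
          exact hK hL'
        exact h1 hwJ
      · have hne : K ≠ L := by
          rintro rfl
          exact hK hLJ
        have h2 : f K ∈ centralizer (L : Set G) := hI K hKmem L hL hne (hf K hKmem)
        have h3 : (f L)⁻¹ * (f K * w) = f K * ((f L)⁻¹ * w) := by
          have := mem_centralizer_iff.mp h2 (f L) (hf L hL)
          have h4 : (f L)⁻¹ * f K = f K * (f L)⁻¹ := by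
            rw [inv_mul_eq_iff_eq_mul, ← mul_assoc, this, mul_inv_cancel_right]
          rw [← mul_assoc, h4, mul_assoc]
        rw [h3]
        exact mul_mem h2 (hw L hLJ)

section comp

variable {G : Type*} [Group G] [Finite G] {p : ℕ} [Fact p.Prime] (P : Sylow p G)
  (hO : pPrimeCore p G = ⊥) {K : Subgroup G} (hK : IsComponent K)

include hO in
/-- elements of the layer centralising all components are in `P` -/
theorem mem_sylow_of_layer {x : G} (hx : x ∈ layer G)
    (hc : ∀ L : Subgroup G, IsComponent L → x ∈ centralizer (L : Set G)) : x ∈ P := by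
  have hF : fittingSubgroup G ≤ pCore p G :=
    Cfsg.Agent.SignalizersComponents.CompOrbit.fittingSubgroup_le_pCore hO
  have hQP : pCore p G ≤ (P : Subgroup G) :=
    Cfsg.Agent.Lib.Cores.pCore_le_sylow P
  have h1 : layer G ≤ centralizer ({x} : Set G) := by
    rw [Cfsg.Agent.SignalizersComponents.Components.layer_le_iff]
    intro L hL y hy
    rw [mem_centralizer_singleton_iff]
    exact mem_centralizer_iff.mp (hc L hL) y hy
  have h2 : x ∈ (center (layer G)).map (layer G).subtype := by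
    refine ⟨⟨x, hx⟩, ?_, rfl⟩
    rw [SetLike.mem_coe, mem_center_iff]
    intro y
    apply Subtype.ext
    exact mem_centralizer_singleton_iff.mp (h1 y.2)
  rw [Cfsg.Agent.S1317.result] at h2
  exact hQP (hF h2.1)

include hO hK in
theorem center_le_sylow {x : K} (hx : x ∈ center K) : (x : G) ∈ P := by
  refine mem_sylow_of_layer P hO
    (Cfsg.Agent.SignalizersComponents.Components.component_le_layer hK x.2) fun L hL => ?_
  by_cases h : K = L
  · subst h
    rw [mem_centralizer_iff]
    intro y hy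
    exact congrArg Subtype.val (mem_center_iff.mp hx ⟨y, hy⟩)
  · exact Cfsg.Agent.SignalizersComponents.Components.component_le_centralizer_of_ne hK hL h x.2

include hK in
theorem not_dvd_relIndex : ¬ p ∣ (P : Subgroup G).relIndex K := fun h => P.not_dvd_index
  (h.trans (Cfsg.Agent.SignalizersComponents.PCompCore.relIndex_dvd_index_of_subnormal _ hK.1))

/-- the Sylow subgroup `P ∩ K` of the component `K`, modulo the centre -/
noncomputable def sylQ : Sylow p (K ⧸ center K) :=
  (((P.isPGroup'.comap_subtype (K := K)).toSylow (not_dvd_relIndex P hK) : Sylow p K)).mapSurjective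
    (QuotientGroup.mk'_surjective (center K))

theorem mem_sylQ {s : K ⧸ center K} (hs : s ∈ sylQ P hK) :
    ∃ k : K, (k : G) ∈ P ∧ (k : K ⧸ center K) = s := by
  obtain ⟨k, hk, rfl⟩ := hs
  exact ⟨k, hk, rfl⟩

theorem mk_mem_sylQ {k : K} (hk : (k : G) ∈ P) : (k : K ⧸ center K) ∈ sylQ P hK := ⟨k, hk, rfl⟩

include hK in
theorem conj_injective : Function.Injective (MulAut.conj : (K ⧸ center K) →* MulAut (K ⧸ center K)) := by
  have hs : IsSimpleGroup (K ⧸ center K) := hK.2.2
  have hp : Group.IsPerfect (K ⧸ center K) := by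
    have := hK.2.1
    exact Group.IsPerfect.ofSurjective (f := QuotientGroup.mk' (center K)) (QuotientGroup.mk'_surjective _)
  have hc : center (K ⧸ center K) = ⊥ := by
    rcases (inferInstance : (center (K ⧸ center K)).Normal).eq_bot_or_eq_top with h | h
    · exact h
    · exfalso
      have h1 : commutator (K ⧸ center K) = ⊥ := by
        rw [_root_.commutator_def, commutator_eq_bot_iff_le_centralizer]
        intro x _
        rw [mem_centralizer_iff]
        intro y _
        have : y ∈ center (K ⧸ center K) := h ▸ mem_top y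
        exact (mem_center_iff.mp this x).symm
      have h2 : commutator (K ⧸ center K) = ⊤ := hp.commutator_eq_top
      exact bot_ne_top (h1.symm.trans h2)
  rw [injective_iff_map_eq_one]
  intro x hx
  have : x ∈ center (K ⧸ center K) := by
    rw [mem_center_iff]
    intro y
    have := congrArg (fun f : MulAut (K ⧸ center K) => f y) hx
    simp only [MulAut.conj_apply, MulAut.one_apply] at this
    rw [mul_inv_eq_iff_eq_mul] at this
    exact this.symm
  rwa [hc, mem_bot] at this

/-- the group of automorphisms of `K/Z(K)` induced by `N_P(K)` -/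
noncomputable def indA (K : Subgroup G) : Subgroup (MulAut (K ⧸ center K)) :=
  ((P : Subgroup G).subgroupOf (normalizer (K : Set G))).map (act K)

theorem isPGroup_indA : IsPGroup p (indA P K) :=
  (P.isPGroup'.comap_subtype (K := normalizer (K : Set G))).map _

theorem act_mem_indA {y : G} (hy : y ∈ P) (hyN : y ∈ normalizer (K : Set G)) :
    act K ⟨y, hyN⟩ ∈ indA P K := ⟨⟨y, hyN⟩, hy, rfl⟩

theorem sylQ_map_le : (sylQ P hK : Subgroup (K ⧸ center K)).map MulAut.conj ≤ indA P K := by
  rintro _ ⟨s, hs, rfl⟩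
  obtain ⟨k, hk, rfl⟩ := mem_sylQ P hK hs
  have h1 := act_mem_indA P (K := K) hk (le_normalizer k.2)
  rw [act_of_mem K ⟨(k : G), le_normalizer k.2⟩ k.2] at h1
  exact h1

include hO hK in
/-- if `conj h` normalises `indA`, a lift `g` of `h` satisfies `[g, y] ∈ P` for `y ∈ N_P(K)` -/
theorem key {g : K} (hgN : MulAut.conj (g : K ⧸ center K) ∈ normalizer (indA P K : Set (MulAut (K ⧸ center K))))
    {y : G} (hy : y ∈ P) (hyN : y ∈ normalizer (K : Set G)) :
    (g : G)⁻¹ * (y * g * y⁻¹) ∈ (P : Subgroup G) := by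
  set h : K ⧸ center K := (g : K ⧸ center K) with hh
  set α := act K ⟨y, hyN⟩ with hα
  have hαA : α ∈ indA P K := act_mem_indA P hy hyN
  have hR : IsPGroup p ((indA P K).comap MulAut.conj) :=
    (isPGroup_indA P).comap_of_injective _ (conj_injective hK)
  have hRQ : (indA P K).comap MulAut.conj = (sylQ P hK : Subgroup (K ⧸ center K)) :=
    (sylQ P hK).is_maximal' hR (map_le_iff_le_comap.mp (sylQ_map_le P hK))
  have hs : h⁻¹ * α h ∈ (sylQ P hK : Subgroup (K ⧸ center K)) := by
    rw [← hRQ, mem_comap, map_mul, map_inv]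
    have h1 : MulAut.conj (α h) = α * MulAut.conj h * α⁻¹ := by
      ext x
      simp only [MulAut.conj_apply, MulAut.mul_apply, map_mul, map_inv, MulAut.apply_inv_self]
    rw [h1]
    have h2 : (MulAut.conj h)⁻¹ * (α * MulAut.conj h * α⁻¹) =
        ((MulAut.conj h)⁻¹ * α * (MulAut.conj h)⁻¹⁻¹) * α⁻¹ := by group
    rw [h2]
    exact mul_mem ((mem_normalizer_iff.mp (inv_mem hgN) α).mp hαA) (inv_mem hαA)
  obtain ⟨k, hk, hks⟩ := mem_sylQ P hK hs
  rw [hh, hα, act_mk, ← QuotientGroup.mk_inv, ← QuotientGroup.mk_mul, QuotientGroup.eq] at hks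
  have h3 := center_le_sylow P hO hK hks
  have h4 : (g : G)⁻¹ * (y * g * y⁻¹) = k * ((k : G)⁻¹ * ((g : G)⁻¹ * (y * g * y⁻¹))) := by group
  rw [h4]
  exact mul_mem hk h3

include hO hK in
/-- **No component is in the table.** -/
theorem row_false (hN : ∀ w ∈ normalizer ((P : Subgroup G) : Set G), ∃ u ∈ P,
      ∃ c ∈ centralizer ((P : Subgroup G) : Set G), w = u * c)
    (hrow : Row p (K ⧸ center K)) : False := by
  classical
  obtain ⟨h, hhp, hhN, hhC⟩ := hrow (indA P K) (isPGroup_indA P) ⟨sylQ P hK, sylQ_map_le P hK⟩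
  obtain ⟨g, hg⟩ := QuotientGroup.mk_surjective h
  rw [← hg] at hhN hhC hhp
  have hcj : ∀ (x : G) (L : Subgroup G), MulAut.conj x • L = L.map (MulAut.conj x).toMonoidHom :=
    fun x L => rfl
  -- the `P`-orbit of `K`
  set I : Finset (Subgroup G) := (Set.toFinite {L : Subgroup G | ∃ x ∈ P, MulAut.conj x • K = L}).toFinset
    with hIdef
  have hmem : ∀ L, L ∈ I ↔ ∃ x ∈ P, MulAut.conj x • K = L := by
    intro L
    simp [hIdef]
  have hcomp : ∀ L ∈ I, IsComponent L := by
    intro L hL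
    obtain ⟨x, -, rfl⟩ := (hmem L).mp hL
    exact Cfsg.Agent.SignalizersComponents.Components.isComponent_conj x hK
  have hI : ∀ L ∈ I, ∀ L' : Subgroup G, IsComponent L' → L ≠ L' → L ≤ centralizer (L' : Set G) :=
    fun L hL L' hL' hne =>
      Cfsg.Agent.SignalizersComponents.Components.component_le_centralizer_of_ne (hcomp L hL) hL' hne
  have hconjI : ∀ x ∈ P, ∀ L ∈ I, MulAut.conj x • L ∈ I := by
    intro x hx L hL
    obtain ⟨y, hy, rfl⟩ := (hmem L).mp hL
    rw [hmem]
    exact ⟨x * y, P.mul_mem hx hy, by rw [map_mul, mul_smul]⟩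
  choose! xs hxsP hxsL using fun L (hL : L ∈ I) => (hmem L).mp hL
  set f : Subgroup G → G := fun L => xs L * g * (xs L)⁻¹ with hf
  have hfL : ∀ L ∈ I, f L ∈ L := by
    intro L hL
    have h1 : f L ∈ MulAut.conj (xs L) • K := ⟨(g : G), g.2, rfl⟩
    rwa [hxsL L hL] at h1
  obtain ⟨w, -, hwI, hw⟩ := exists_prod I (fun L hL L' hL' => hI L hL L' (hcomp L' hL')) f hfL ⊤
    (fun L _ => mem_top _)
  have hsupC : ∀ L : Subgroup G, IsComponent L → L ∉ I → (⨆ L' ∈ I, L') ≤ centralizer (L : Set G) := by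
    intro L hL hLI
    refine iSup₂_le fun L' hL' => hI L' hL' L hL ?_
    rintro rfl
    exact hLI hL'
  have hsupE : (⨆ L' ∈ I, L') ≤ layer G := iSup₂_le fun L' hL' =>
    Cfsg.Agent.SignalizersComponents.Components.component_le_layer (hcomp L' hL')
  have hconjC : ∀ (x : G) (L : Subgroup G) (c : G), c ∈ centralizer ((MulAut.conj x⁻¹ • L : Subgroup G) : Set G) →
      x * c * x⁻¹ ∈ centralizer (L : Set G) := by
    intro x L c hc
    rw [mem_centralizer_iff] at hc ⊢
    intro l hl
    have h1 := hc (x⁻¹ * l * x) ⟨l, hl, by simp⟩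
    calc l * (x * c * x⁻¹) = x * ((x⁻¹ * l * x) * c) * x⁻¹ := by group
      _ = x * (c * (x⁻¹ * l * x)) * x⁻¹ := by rw [h1]
      _ = x * c * x⁻¹ * l := by group
  -- `w` normalises `P`
  have hwP : ∀ x ∈ P, w⁻¹ * (x * w * x⁻¹) ∈ (P : Subgroup G) := by
    intro x hx
    set L' : Subgroup G → Subgroup G := fun L => MulAut.conj x⁻¹ • L with hL'
    have hL'I : ∀ L ∈ I, L' L ∈ I := fun L hL => hconjI x⁻¹ (P.inv_mem hx) L hL
    set q : Subgroup G → G := fun L => (f L)⁻¹ * (x * f (L' L) * x⁻¹) with hq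
    have hqP : ∀ L ∈ I, q L ∈ (P : Subgroup G) ∧ q L ∈ L := by
      intro L hL
      set a := xs L
      set b := xs (L' L)
      have ha : a ∈ P := hxsP L hL
      have hb : b ∈ P := hxsP _ (hL'I L hL)
      set y := a⁻¹ * (x * b) with hy
      have hyP : y ∈ P := P.mul_mem (P.inv_mem ha) (P.mul_mem hx hb)
      have hyK : MulAut.conj y • K = K := by
        rw [hy, map_mul, map_mul, mul_smul, mul_smul, hxsL _ (hL'I L hL), hL']
        simp only [map_inv, smul_inv_smul]
        rw [inv_smul_eq_iff, hxsL L hL]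
      have hyN : y ∈ normalizer (K : Set G) :=
        Cfsg.Agent.SignalizersComponents.PCompCore.mem_normalizer_of_map_conj_eq hyK
      have h1 : q L = a * ((g : G)⁻¹ * (y * g * y⁻¹)) * a⁻¹ := by
        change (a * (g : G) * a⁻¹)⁻¹ * (x * (b * (g : G) * b⁻¹) * x⁻¹) = _
        rw [hy]
        group
      constructor
      · rw [h1]
        exact P.mul_mem (P.mul_mem ha (key P hO hK hhN hyP hyN)) (P.inv_mem ha)
      · have h2 : q L ∈ MulAut.conj a • K := by
          refine ⟨(g : G)⁻¹ * (y * g * y⁻¹), mul_mem (inv_mem g.2) ((mem_normalizer_iff.mp hyN _).mp g.2), ?_⟩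
          rw [h1]
          rfl
        rwa [hxsL L hL] at h2
    obtain ⟨r, hrP, hrI, hr⟩ := exists_prod I (fun L hL L' hL' => hI L hL L' (hcomp L' hL')) q
      (fun L hL => (hqP L hL).2) P (fun L hL => (hqP L hL).1)
    -- `r⁻¹ v` centralises all components
    set v := w⁻¹ * (x * w * x⁻¹) with hv
    have hvE : r⁻¹ * v ∈ layer G := by
      have hn := Cfsg.Agent.SignalizersComponents.Components.layer_normal G
      exact mul_mem (inv_mem (hsupE hrI)) (mul_mem (inv_mem (hsupE hwI)) (hn.conj_mem _ (hsupE hwI) x))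
    have hvC : ∀ L : Subgroup G, IsComponent L → r⁻¹ * v ∈ centralizer (L : Set G) := by
      intro L hL
      by_cases hLI : L ∈ I
      · have h1 := hw L hLI
        have h2 := hconjC x L _ (hw (L' L) (hL'I L hLI))
        have h3 := hr L hLI
        have h4 : ((f L)⁻¹ * w)⁻¹ * q L = q L * ((f L)⁻¹ * w)⁻¹ :=
          (mem_centralizer_iff.mp (inv_mem h1) (q L) (hqP L hLI).2).symm
        have h5 : r⁻¹ * v = ((q L)⁻¹ * r)⁻¹ * (((f L)⁻¹ * w)⁻¹ * (x * ((f (L' L))⁻¹ * w) * x⁻¹)) := by
          have h6 : v = (((f L)⁻¹ * w)⁻¹ * q L) * (x * ((f (L' L))⁻¹ * w) * x⁻¹) := by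
            simp only [hv, hq]
            group
          rw [h6, h4]
          group
        rw [h5]
        exact mul_mem (inv_mem h3) (mul_mem (inv_mem h1) h2)
      · have h1 := hsupC L hL hLI
        have hL'n : L' L ∉ I := by
          intro h
          apply hLI
          have := hconjI x hx _ h
          simpa [hL', map_inv, smul_inv_smul] using this
        have hL'c : IsComponent (L' L) :=
          Cfsg.Agent.SignalizersComponents.Components.isComponent_conj x⁻¹ hL
        exact mul_mem (inv_mem (h1 hrI)) (mul_mem (inv_mem (h1 hwI))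
          (hconjC x L w (hsupC _ hL'c hL'n hwI)))
    have := mem_sylow_of_layer P hO hvE hvC
    have h7 : v = r * (r⁻¹ * v) := by group
    rw [h7]
    exact P.mul_mem hrP this
  have hwN : w ∈ normalizer ((P : Subgroup G) : Set G) := by
    have h1 : w⁻¹ ∈ normalizer ((P : Subgroup G) : Set G) := by
      apply mem_normalizer_fintype
      intro x hx
      have h2 := P.mul_mem (hwP x hx) hx
      have h3 : w⁻¹ * (x * w * x⁻¹) * x = w⁻¹ * x * w⁻¹⁻¹ := by group
      rwa [h3] at h2
    simpa using inv_mem h1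
  obtain ⟨u, hu, c, hc, huc⟩ := hN w hwN
  -- restrict to `K`
  have hKI : K ∈ I := (hmem K).mpr ⟨1, P.one_mem, by simp⟩
  have hcN : c ∈ normalizer (K : Set G) :=
    Cfsg.Agent.SignalizersComponents.PCompCore.mem_normalizer_of_centralizes
      (Cfsg.Agent.SignalizersComponents.EvenComponent.isPComponent_of_isComponent hK
        (Cfsg.Agent.SignalizersComponents.PCompCore.dvd_card_component hO hK))
      (P : Subgroup G) (not_dvd_relIndex P hK) hc
  have hc0 := hw K hKI
  have hfN : f K ∈ normalizer (K : Set G) := le_normalizer (hfL K hKI)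
  have hc0N : (f K)⁻¹ * w ∈ normalizer (K : Set G) := centralizer_le_normalizer _ hc0
  have hwNK : w ∈ normalizer (K : Set G) := by
    have := mul_mem hfN hc0N
    rwa [mul_inv_cancel_left] at this
  have huN : u ∈ normalizer (K : Set G) := by
    have : u = w * c⁻¹ := by rw [huc]; group
    rw [this]
    exact mul_mem hwNK (inv_mem hcN)
  set hKq : K ⧸ center K := ((⟨f K, hfL K hKI⟩ : K) : K ⧸ center K) with hhK
  have e1 : act K ⟨w, hwNK⟩ = MulAut.conj hKq := by
    have h1 : (⟨w, hwNK⟩ : normalizer (K : Set G)) = ⟨f K, hfN⟩ * ⟨(f K)⁻¹ * w, hc0N⟩ := by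
      apply Subtype.ext
      simp
    have h2 : act K ⟨(f K)⁻¹ * w, hc0N⟩ = 1 := by
      ext z
      obtain ⟨z, rfl⟩ := QuotientGroup.mk_surjective z
      rw [act_mk]
      have h3 : (⟨((f K)⁻¹ * w) * z * ((f K)⁻¹ * w)⁻¹, (mem_normalizer_iff.mp hc0N z).mp z.2⟩ : K) = z := by
        apply Subtype.ext
        show ((f K)⁻¹ * w) * z * ((f K)⁻¹ * w)⁻¹ = z
        rw [← mem_centralizer_iff.mp hc0 z z.2, mul_inv_cancel_right]
      rw [h3]
      rfl
    rw [h1, map_mul, h2, mul_one, act_of_mem K ⟨f K, hfN⟩ (hfL K hKI)]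
  have e2 : act K ⟨w, hwNK⟩ = act K ⟨u, huN⟩ * act K ⟨c, hcN⟩ := by
    rw [← map_mul]
    congr 1
    exact Subtype.ext huc
  have hcC : act K ⟨c, hcN⟩ ∈ centralizer (indA P K : Set (MulAut (K ⧸ center K))) := by
    rw [mem_centralizer_iff]
    rintro _ ⟨⟨y, hyN⟩, hy, rfl⟩
    rw [← map_mul, ← map_mul]
    congr 1
    exact Subtype.ext (mem_centralizer_iff.mp hc y hy)
  have hxN : xs K ∈ normalizer (K : Set G) :=
    Cfsg.Agent.SignalizersComponents.PCompCore.mem_normalizer_of_map_conj_eq (hxsL K hKI)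
  set α := act K ⟨xs K, hxN⟩ with hα
  have hαA : α ∈ indA P K := act_mem_indA P (hxsP K hKI) hxN
  have e3 : MulAut.conj hKq = α * MulAut.conj (g : K ⧸ center K) * α⁻¹ := by
    have h1 : hKq = α (g : K ⧸ center K) := rfl
    rw [h1]
    ext z
    simp only [MulAut.conj_apply, MulAut.mul_apply, map_mul, map_inv, MulAut.apply_inv_self]
  have hp' : ¬ p ∣ orderOf (MulAut.conj hKq) := by
    rw [e3]
    have h1 : orderOf (α * MulAut.conj (g : K ⧸ center K) * α⁻¹) = orderOf (MulAut.conj (g : K ⧸ center K)) := by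
      have := MulAut.conj α
      exact orderOf_injective (MulAut.conj α).toMonoidHom (MulAut.conj α).injective _
    rw [h1]
    exact fun h => hhp (h.trans (orderOf_map_dvd _ _))
  have hfin : MulAut.conj hKq ∈ centralizer (indA P K : Set (MulAut (K ⧸ center K))) :=
    mem_centralizer_of_mul (isPGroup_indA P) (act_mem_indA P hu huN) hcC (e1.symm.trans e2) hp'
  apply hhC
  have e4 : MulAut.conj (g : K ⧸ center K) = MulAut.conj hKq := by
    have h1 := mem_centralizer_iff.mp hfin α hαA
    rw [e3] at h1 ⊢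
    have h2 : α * (α * MulAut.conj (g : K ⧸ center K) * α⁻¹) = α * MulAut.conj (g : K ⧸ center K) := by
      rw [h1]; group
    have h3 := mul_left_cancel h2
    exact h3.symm
  rw [e4]
  exact hfin

omit [Finite G] in
theorem comm_aux {a b z z' : G} (e1 : z * b = b * z) (e2 : z' * a = a * z') (e4 : z * z' = z' * z) :
    (a * z) * (b * z') * (a * z)⁻¹ * (b * z')⁻¹ = a * b * a⁻¹ * b⁻¹ := by
  have e3 : z' * a⁻¹ = a⁻¹ * z' := by
    rw [mul_inv_eq_iff_eq_mul, mul_assoc, e2, inv_mul_cancel_left]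
  calc (a * z) * (b * z') * (a * z)⁻¹ * (b * z')⁻¹
      = a * (z * b) * z' * z⁻¹ * a⁻¹ * z'⁻¹ * b⁻¹ := by group
    _ = a * b * (z * z') * z⁻¹ * a⁻¹ * z'⁻¹ * b⁻¹ := by rw [e1]; group
    _ = a * b * (z' * a⁻¹) * z'⁻¹ * b⁻¹ := by rw [e4]; group
    _ = a * b * a⁻¹ * b⁻¹ := by rw [e3]; group

include hK in
/-- an element acting trivially on `K/Z(K)` centralises `K` -/
theorem mem_centralizer_of_act {y : G} (hy : y ∈ normalizer (K : Set G)) (h : act K ⟨y, hy⟩ = 1) :
    y ∈ centralizer (K : Set G) := by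
  -- `y` fixes commutators
  have h1 : ∀ x : K, ∃ z : K, z ∈ center K ∧ y * x * y⁻¹ = (x : G) * z := by
    intro x
    have h2 : act K ⟨y, hy⟩ (x : K ⧸ center K) = (x : K ⧸ center K) := by rw [h]; rfl
    rw [act_mk] at h2
    have h3 := QuotientGroup.eq.mp h2.symm
    exact ⟨_, h3, by simp⟩
  have h4 : commutator K ≤ (centralizer ({y} : Set G)).subgroupOf K := by
    rw [_root_.commutator_def, commutator_le]
    intro a _ b _
    obtain ⟨z, hz, hza⟩ := h1 a
    obtain ⟨z', hz', hzb⟩ := h1 b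
    rw [mem_subgroupOf, mem_centralizer_singleton_iff]
    have hzc : ∀ k : K, (z : G) * k = k * z := fun k => congrArg Subtype.val (mem_center_iff.mp hz k).symm
    have hzc' : ∀ k : K, (z' : G) * k = k * z' := fun k => congrArg Subtype.val (mem_center_iff.mp hz' k).symm
    have h5 : y * (⁅a, b⁆ : K) * y⁻¹ = (⁅a, b⁆ : K) := by
      have h6 : y * ((⁅a, b⁆ : K) : G) * y⁻¹ =
          (y * a * y⁻¹) * (y * b * y⁻¹) * (y * a * y⁻¹)⁻¹ * (y * b * y⁻¹)⁻¹ := by
        have h9 : ((⁅a, b⁆ : K) : G) = (a : G) * b * (a : G)⁻¹ * (b : G)⁻¹ := rfl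
        rw [h9]
        group
      rw [h6, hza, hzb, comm_aux (hzc b) (hzc' a) (hzc z'), commutatorElement_def]
      rfl
    rw [mul_inv_eq_iff_eq_mul] at h5
    exact h5.symm
  have h7 : commutator K = ⊤ := hK.2.1.commutator_eq_top
  rw [mem_centralizer_iff]
  intro k hk
  have h8 : (⟨k, hk⟩ : K) ∈ commutator K := h7 ▸ mem_top _
  exact mem_centralizer_singleton_iff.mp (h4 h8)

include hO hK in
theorem cent_comp (hC : CentP p (K ⧸ center K)) {c : G} (hc : c ∈ centralizer ((P : Subgroup G) : Set G))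
    (hcp : ¬ p ∣ orderOf c) : c ∈ centralizer (K : Set G) := by
  have hcN : c ∈ normalizer (K : Set G) :=
    Cfsg.Agent.SignalizersComponents.PCompCore.mem_normalizer_of_centralizes
      (Cfsg.Agent.SignalizersComponents.EvenComponent.isPComponent_of_isComponent hK
        (Cfsg.Agent.SignalizersComponents.PCompCore.dvd_card_component hO hK))
      (P : Subgroup G) (not_dvd_relIndex P hK) hc
  apply mem_centralizer_of_act hK hcN
  apply hC (sylQ P hK)
  · intro h
    have h2 := h.trans (orderOf_map_dvd (act K) (⟨c, hcN⟩ : normalizer (K : Set G)))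
    rw [orderOf_mk] at h2
    exact hcp h2
  · intro s hs
    obtain ⟨k, hk, rfl⟩ := mem_sylQ P hK hs
    rw [act_mk]
    congr 1
    apply Subtype.ext
    show c * k * c⁻¹ = k
    rw [← mem_centralizer_iff.mp hc k hk, mul_inv_cancel_right]

theorem eq_one_of_sylow {c : G} (h4 : c ∈ (P : Subgroup G)) (hcp : ¬ p ∣ orderOf c) : c = 1 := by
  have hp : p.Prime := Fact.out
  obtain ⟨k, hk⟩ := P.isPGroup' ⟨c, h4⟩
  have h5 : c ^ p ^ k = 1 := congrArg Subtype.val hk
  have h6 : orderOf c ∣ p ^ k := orderOf_dvd_of_pow_eq_one h5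
  have h7 : Nat.Coprime (orderOf c) (p ^ k) :=
    (Nat.Coprime.pow_left k ((Nat.Prime.coprime_iff_not_dvd hp).mpr hcp)).symm
  exact orderOf_eq_one_iff.mp (Nat.Coprime.eq_one_of_dvd h7 h6)

include hO in
theorem cent_eq_one (hC : ∀ K : Subgroup G, IsComponent K → CentP p (K ⧸ center K)) {c : G}
    (hc : c ∈ centralizer ((P : Subgroup G) : Set G)) (hcp : ¬ p ∣ orderOf c) : c = 1 := by
  have hF : fittingSubgroup G ≤ pCore p G :=
    Cfsg.Agent.SignalizersComponents.CompOrbit.fittingSubgroup_le_pCore hO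
  have hQP : pCore p G ≤ (P : Subgroup G) := Cfsg.Agent.Lib.Cores.pCore_le_sylow P
  have h2 : generalizedFittingSubgroup G ≤ centralizer ({c} : Set G) := by
    show layer G ⊔ fittingSubgroup G ≤ _
    rw [sup_le_iff]
    constructor
    · rw [Cfsg.Agent.SignalizersComponents.Components.layer_le_iff]
      intro L hL y hy
      rw [mem_centralizer_singleton_iff]
      exact mem_centralizer_iff.mp (cent_comp P hO hL (hC L hL) hc hcp) y hy
    · intro y hy
      rw [mem_centralizer_singleton_iff]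
      exact mem_centralizer_iff.mp hc y (hQP (hF hy))
  have h3 : c ∈ centralizer (generalizedFittingSubgroup G : Set G) := by
    rw [mem_centralizer_iff]
    intro y hy
    exact mem_centralizer_singleton_iff.mp (h2 hy)
  exact eq_one_of_sylow P
    (hQP (hF (Cfsg.Agent.TwoFusion.FStarControl.centralizer_genFitting_le_fitting h3))) hcp

include hO in
/-- **`C_G(P) ≤ P`** when all components have the property `CentP` -/
theorem centralizer_le (hC : ∀ K : Subgroup G, IsComponent K → CentP p (K ⧸ center K)) :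
    centralizer ((P : Subgroup G) : Set G) ≤ (P : Subgroup G) := by
  have hp : p.Prime := Fact.out
  -- `C_G(P)` is a `p`-group
  have hpg : IsPGroup p (centralizer ((P : Subgroup G) : Set G)) := by
    intro c
    obtain ⟨a, n, hn, hcn⟩ := Nat.exists_eq_pow_mul_and_not_dvd (orderOf_pos (c : G)).ne' p hp.ne_one
    refine ⟨a, ?_⟩
    apply Subtype.ext
    show (c : G) ^ p ^ a = 1
    apply cent_eq_one P hO hC (pow_mem c.2 _)
    intro h
    apply hn
    refine h.trans (orderOf_dvd_of_pow_eq_one ?_)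
    rw [← pow_mul, ← hcn, pow_orderOf_eq_one]
  have hpp : IsPGroup p (centralizer ((P : Subgroup G) : Set G) ⊔ (P : Subgroup G) : Subgroup G) :=
    IsPGroup.to_sup_of_normal_right' hpg P.isPGroup' (centralizer_le_normalizer _)
  exact le_of_le_of_eq le_sup_left (P.is_maximal' hpp le_sup_right)

theorem exists_mul {w : G} (hw : w ∈ (P : Subgroup G) ⊔ centralizer ((P : Subgroup G) : Set G)) :
    ∃ u ∈ P, ∃ c ∈ centralizer ((P : Subgroup G) : Set G), w = u * c := by
  have h1 : (P : Subgroup G) ≤ normalizer ((centralizer ((P : Subgroup G) : Set G) : Subgroup G) : Set G) := by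
    intro x hx
    rw [mem_normalizer_iff]
    have key : ∀ x ∈ (P : Subgroup G), ∀ c ∈ centralizer ((P : Subgroup G) : Set G),
        x * c * x⁻¹ ∈ centralizer ((P : Subgroup G) : Set G) := by
      intro x hx c hc
      have : x * c * x⁻¹ = c := by rw [mem_centralizer_iff.mp hc x hx, mul_inv_cancel_right]
      rwa [this]
    intro c
    refine ⟨key x hx c, fun h => ?_⟩
    have := key x⁻¹ (inv_mem hx) _ h
    have e : x⁻¹ * (x * c * x⁻¹) * x⁻¹⁻¹ = c := by group
    rwa [e] at this
  have h2 : w ∈ ((P : Subgroup G) : Set G) * (centralizer ((P : Subgroup G) : Set G) : Subgroup G) := by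
    rw [← coe_mul_of_left_le_normalizer_right _ _ h1]
    exact hw
  obtain ⟨u, hu, c, hc, huc⟩ := Set.mem_mul.mp h2
  exact ⟨u, hu, c, hc, huc.symm⟩

include hO in
/-- **Groups with `O_{p'}(G) = 1` and `N_G(P) = P C_G(P)`**: `P` is self-normalising. -/
theorem normalizer_eq (hN : normalizer ((P : Subgroup G) : Set G) ≤
      (P : Subgroup G) ⊔ centralizer ((P : Subgroup G) : Set G))
    (hT : ∀ K : Subgroup G, IsComponent K → Row p (K ⧸ center K) ∨ CentP p (K ⧸ center K)) :
    normalizer ((P : Subgroup G) : Set G) = (P : Subgroup G) := by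
  apply le_antisymm _ le_normalizer
  refine hN.trans (sup_le le_rfl (centralizer_le P hO fun K hK => ?_))
  rcases hT K hK with h | h
  · exact (row_false P hO hK (fun w hw => exists_mul P (hN hw)) h).elim
  · exact h

end comp

theorem dvd_card {G : Type*} [Group G] [Finite G] {p : ℕ} [Fact p.Prime] (P : Sylow p G)
    (hO : pPrimeCore p G = ⊥) {K : Subgroup G} (hK : IsComponent K) : p ∣ Nat.card (K ⧸ center K) := by
  have h1 := Cfsg.Agent.SignalizersComponents.PCompCore.not_le_centralizer_of_component hO hK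
    (P : Subgroup G) (not_dvd_relIndex P hK)
  by_contra hnd
  apply h1
  rintro k ⟨hkP, hkK⟩
  have h2 := mk_mem_sylQ P hK (k := ⟨k, hkK⟩) hkP
  obtain ⟨m, hm⟩ := (sylQ P hK).isPGroup' ⟨_, h2⟩
  have h3 : (((⟨k, hkK⟩ : K) : K ⧸ center K)) ^ p ^ m = 1 := congrArg Subtype.val hm
  have h4 : orderOf (((⟨k, hkK⟩ : K) : K ⧸ center K)) ∣ p ^ m := orderOf_dvd_of_pow_eq_one h3
  have h5 : orderOf (((⟨k, hkK⟩ : K) : K ⧸ center K)) ∣ Nat.card (K ⧸ center K) := orderOf_dvd_natCard _
  have h6 : Nat.Coprime (p ^ m) (Nat.card (K ⧸ center K)) :=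
    Nat.Coprime.pow_left m ((Nat.Prime.coprime_iff_not_dvd Fact.out).mpr hnd)
  have h7 : (((⟨k, hkK⟩ : K) : K ⧸ center K)) = 1 :=
    orderOf_eq_one_iff.mp (Nat.eq_one_of_dvd_coprimes h6 h4 h5)
  have h8 := (QuotientGroup.eq_one_iff _).mp h7
  rw [mem_centralizer_iff]
  intro y hy
  exact congrArg Subtype.val (mem_center_iff.mp h8 ⟨y, hy⟩)

/-- the table for the prime `p` -/
def Table.{u} (p : ℕ) : Prop :=
  ∀ (S : Type u) [Group S] [Finite S] [IsSimpleGroup S], ¬ IsMulCommutative S → p ∣ Nat.card S →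
    Row p S ∨ CentP p S

/-- **Reduction.** `N_G(P) = P C_G(P)` implies that the Sylow `p`-subgroups of `G/O_{p'}(G)` are
self-normalising. -/
theorem main.{u} {p : ℕ} [Fact p.Prime] (hT : Table.{u} p) {G : Type u} [Group G] [Finite G] (P : Sylow p G)
    (hN : normalizer ((P : Subgroup G) : Set G) ≤
      (P : Subgroup G) ⊔ centralizer ((P : Subgroup G) : Set G))
    (O : Subgroup G) [O.Normal] (hO : O = pPrimeCore p G) :
    normalizer (((P.mapSurjective (QuotientGroup.mk'_surjective O) : Sylow p (G ⧸ O)) :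
      Subgroup (G ⧸ O)) : Set (G ⧸ O)) =
      ((P.mapSurjective (QuotientGroup.mk'_surjective O) : Sylow p (G ⧸ O)) : Subgroup (G ⧸ O)) := by
  have hO1 : pPrimeCore p (G ⧸ O) = ⊥ := by
    subst hO
    exact Cfsg.Agent.Lib.Cores.pPrimeCore_quotient_pPrimeCore p
  have hcop : (Nat.card O).Coprime p := by
    rw [hO]
    exact Cfsg.Agent.Lib.Cores.pPrimeCore_coprime p
  set Q := P.mapSurjective (QuotientGroup.mk'_surjective O) with hQ
  have hQP : (Q : Subgroup (G ⧸ O)) = (P : Subgroup G).map (QuotientGroup.mk' O) := rfl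
  refine normalizer_eq Q hO1 ?_ ?_
  · rw [hQP, ← Cfsg.Agent.PLocal.CoprimeLift.map_normalizer_mk O P hcop P.isPGroup']
    refine (map_mono hN).trans ?_
    rw [Subgroup.map_sup]
    refine sup_le_sup le_rfl ?_
    rintro _ ⟨c, hc, rfl⟩
    rw [mem_centralizer_iff]
    rintro _ ⟨x, hx, rfl⟩
    rw [← map_mul, ← map_mul, mem_centralizer_iff.mp hc x hx]
  · intro K hK
    have hs : IsSimpleGroup (K ⧸ center K) := hK.2.2
    refine hT _ ?_ ?_
    · intro hc
      have h1 := conj_injective hK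
      have h2 : ∀ x : K ⧸ center K, x = 1 := by
        intro x
        apply h1
        ext y
        rw [map_one, MulAut.conj_apply, MulAut.one_apply, mul_inv_eq_iff_eq_mul]
        exact hc.1.1 x y
      obtain ⟨x, y, hxy⟩ := hs.toNontrivial
      exact hxy ((h2 x).trans (h2 y).symm)
    · exact dvd_card Q hO1 hK

end Cfsg.Agent.H142.GmnPC
end

-- part: H681/GmnRgd
section
set_option linter.all false
open scoped Cfsg.Agent.FastGrp

/-!
# The rows of the Guralnick-Malle-Navarro table in defining characteristic: the frame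

`R` a root group datum of characteristic `p` of a finite group `Y` with trivial centre, generated by the root groups.

* `row_of_sylow` : it is enough to consider one Sylow `p`-subgroup;
* `exists_fixed_group` : a `p`-group of automorphisms fixing a nontrivial `p`-subgroup fixes a nontrivial element;
* `row_of_fixed` : if every `p`-group of frame automorphisms (fixing `U` and `U⁻`) centralises a nontrivial element
  of `T`, then `Row p Y`.
-/

set_option autoImplicit false
set_option linter.unusedSectionVars false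

namespace Cfsg.Agent.H681.GmnRgd

open CoxeterSystem Cfsg.Agent.ChevalleyStructure.CoxeterGeom Cfsg.Agent.Tits.Roots Cfsg.Agent.Tits.Core
  Cfsg.Agent.Tits.Exchange Cfsg.Agent.Nodes.Reps Cfsg.Agent.Nodes.BNOf Cfsg.Agent.Nodes.StabComb
  Cfsg.Agent.Nodes.Bruhat Cfsg.Agent.Nodes.OppDec Cfsg.Agent.Nodes.LeviDec Cfsg.Agent.Nodes.NormalForm
  Cfsg.Agent.KFacts.RgdOpp Cfsg.Agent.KFacts.RgdAut Cfsg.Agent.KFacts.RgdDiag Cfsg.Agent.KFacts.RgdRigid
  Cfsg.Agent.H142.GmnPC
open scoped commutatorElement Pointwise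

/-! ### general facts -/

section General

variable {p : ℕ} {S : Type*} [Group S]

theorem mul_conj_eq (α : MulAut S) (x : S) : α * MulAut.conj x = MulAut.conj (α x) * α := by
  ext y
  simp only [MulAut.mul_apply, MulAut.conj_apply, map_mul, map_inv]

theorem conj_injective_of_center (hZ : Subgroup.center S = ⊥) {x y : S} (h : MulAut.conj x = MulAut.conj y) :
    x = y := by
  have h1 : x⁻¹ * y ∈ Subgroup.center S := by
    rw [Subgroup.mem_center_iff]
    intro g
    have h2 := congrArg (fun f : MulAut S => f g) h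
    simp only [MulAut.conj_apply] at h2
    have h3 : g * x⁻¹ = x⁻¹ * (y * g * y⁻¹) := by rw [← h2]; group
    rw [← mul_assoc, h3]; group
  rw [hZ, Subgroup.mem_bot, inv_mul_eq_one] at h1
  exact h1

/-- In a finite group it is enough that both `g` and `g⁻¹` conjugate `A` into itself. -/
theorem mem_normalizer_of {A : Subgroup S} {g : S} (h1 : ∀ a ∈ A, g * a * g⁻¹ ∈ A) (h2 : ∀ a ∈ A, g⁻¹ * a * g ∈ A) :
    g ∈ Subgroup.normalizer (A : Set S) := by
  rw [Subgroup.mem_normalizer_iff]
  intro a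
  refine ⟨h1 a, fun h => ?_⟩
  have := h2 _ h
  have e : g⁻¹ * (g * a * g⁻¹) * g = a := by group
  rwa [e] at this

/-- It is enough to consider one Sylow `p`-subgroup. -/
theorem row_of_sylow [Finite S] [Fact p.Prime] (P : Sylow p S)
    (H : ∀ A : Subgroup (MulAut S), IsPGroup p A → (P : Subgroup S).map MulAut.conj ≤ A →
      ∃ h : S, ¬ p ∣ orderOf h ∧ MulAut.conj h ∈ Subgroup.normalizer (A : Set (MulAut S)) ∧
        MulAut.conj h ∉ Subgroup.centralizer (A : Set (MulAut S))) : Row p S := by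
  rintro A hA ⟨Q, hQ⟩
  obtain ⟨g, hg⟩ := MulAction.exists_smul_eq S Q P
  set c : MulAut S := MulAut.conj g with hc
  have hA' : IsPGroup p ↥(A.map (MulAut.conj c).toMonoidHom) := hA.map _
  obtain ⟨h, h1, h2, h3⟩ := H (A.map (MulAut.conj c).toMonoidHom) hA' (by
    rintro _ ⟨x, hx, rfl⟩
    rw [← hg] at hx
    obtain ⟨y, hy, rfl⟩ : ∃ y ∈ (Q : Subgroup S), g * y * g⁻¹ = x := by
      have hx' : x ∈ MulAut.conj g • (Q : Subgroup S) := hx
      rw [Subgroup.mem_pointwise_smul_iff_inv_smul_mem] at hx'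
      refine ⟨_, hx', ?_⟩
      rw [← map_inv, MulAut.smul_def, MulAut.conj_apply, inv_inv]
      group
    refine ⟨MulAut.conj y, hQ ⟨y, hy, rfl⟩, ?_⟩
    show c * MulAut.conj y * c⁻¹ = MulAut.conj (g * y * g⁻¹)
    rw [hc, map_mul, map_mul, map_inv])
  have hmem : ∀ a, a ∈ A.map (MulAut.conj c).toMonoidHom ↔ c⁻¹ * a * c ∈ A := by
    intro a
    constructor
    · rintro ⟨b, hb, rfl⟩
      have e : c⁻¹ * (c * b * c⁻¹) * c = b := by group
      show c⁻¹ * (c * b * c⁻¹) * c ∈ A
      rw [e]; exact hb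
    · intro h
      exact ⟨_, h, by show c * (c⁻¹ * a * c) * c⁻¹ = a; group⟩
  refine ⟨g⁻¹ * h * g, ?_, ?_, ?_⟩
  · have e : orderOf (g⁻¹ * h * g) = orderOf h := by
      have : g⁻¹ * h * g = MulAut.conj g⁻¹ h := by rw [MulAut.conj_apply, inv_inv]
      rw [this]
      exact orderOf_injective (MulAut.conj g⁻¹).toMonoidHom (MulAut.conj g⁻¹).injective h
    rw [e]; exact h1
  · rw [Subgroup.mem_normalizer_iff] at h2 ⊢
    intro a
    have h4 := h2 (c * a * c⁻¹)
    rw [hmem, hmem] at h4
    have e1 : c⁻¹ * (c * a * c⁻¹) * c = a := by group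
    have e2 : c⁻¹ * (MulAut.conj h * (c * a * c⁻¹) * (MulAut.conj h)⁻¹) * c =
        MulAut.conj (g⁻¹ * h * g) * a * (MulAut.conj (g⁻¹ * h * g))⁻¹ := by
      rw [map_mul, map_mul, map_inv, ← hc]; group
    rw [e1, e2] at h4
    exact h4
  · intro h4
    apply h3
    rw [Subgroup.mem_centralizer_iff] at h4 ⊢
    intro a ha
    have h5 := h4 _ ((hmem a).1 ha)
    have e3 : MulAut.conj (g⁻¹ * h * g) = c⁻¹ * MulAut.conj h * c := by
      rw [map_mul, map_mul, map_inv, ← hc]
    rw [e3] at h5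
    have h6 := congrArg (fun z => c * z * c⁻¹) h5
    have e4 : c * (c⁻¹ * a * c * (c⁻¹ * MulAut.conj h * c)) * c⁻¹ = a * MulAut.conj h := by group
    have e5 : c * (c⁻¹ * MulAut.conj h * c * (c⁻¹ * a * c)) * c⁻¹ = MulAut.conj h * a := by group
    simp only [e4, e5] at h6
    exact h6

/-- A `p`-group of automorphisms fixing a nontrivial `p`-subgroup fixes a nontrivial element. -/
theorem exists_fixed_group [Finite S] [Fact p.Prime] {E : Subgroup (MulAut S)} (hE : IsPGroup p E) {P : Subgroup S}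
    (hP : ∀ β ∈ E, Fix β P) (hp : IsPGroup p ↥P) (hne : P ≠ ⊥) : ∃ y ∈ P, y ≠ 1 ∧ ∀ β ∈ E, β y = y := by
  letI : MulAction ↥E ↥P :=
    { smul := fun γ y => ⟨γ.1 y.1, (hP γ.1 γ.2 y.1).2 y.2⟩
      one_smul := fun y => Subtype.ext rfl
      mul_smul := fun γ δ y => Subtype.ext rfl }
  have : Finite ↥P := inferInstance
  haveI : Fintype ↥P := Fintype.ofFinite _
  have hdvd : p ∣ Nat.card ↥P := by
    obtain ⟨m, hm⟩ := (IsPGroup.iff_card (p := p)).1 hp
    rw [hm]
    refine dvd_pow_self p fun h1 => hne ?_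
    rw [h1, pow_zero] at hm
    exact Subgroup.card_eq_one.1 hm
  have h1 : (1 : ↥P) ∈ MulAction.fixedPoints ↥E ↥P := by
    intro γ
    apply Subtype.ext
    show γ.1 1 = 1
    exact map_one _
  obtain ⟨b, hb, hb1⟩ := hE.exists_fixed_point_of_prime_dvd_card_of_fixed_point ↥P hdvd h1
  refine ⟨b.1, b.2, fun h2 => hb1 (Subtype.ext h2.symm), fun β hβ => ?_⟩
  have := hb ⟨β, hβ⟩
  exact congrArg Subtype.val this

end General

/-! ### the frame -/

variable {I W Y : Type*} [Fintype I] [DecidableEq I] [Group W] [Group Y] {M : CoxeterMatrix I}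
  {cs : CoxeterSystem M W} {A : I → I → ℤ} {h : IsCartan M A} {p : ℕ} {T : Subgroup Y} {n : I → Y}
  {X : (I → ℤ) → Subgroup Y}

section

variable (R : RGD cs h p T n X)

include R

theorem diag_conj [Finite W] {t : Y} (ht : t ∈ T) : Diag T X (MulAut.conj t) 1 where
  tor x := by
    rw [MulAut.conj_apply]
    exact (Subgroup.mem_normalizer_iff.1 (Subgroup.le_normalizer ht) x).symm
  pos i x := by
    rw [MulAut.conj_apply, Equiv.Perm.one_apply]
    have h1 := R.tor _ (isRoot_sr cs h i) t ht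
    constructor
    · intro h2; rw [← h1] at h2; exact conj_mem_cj.1 h2
    · intro h2; rw [← h1]; exact conj_mem_cj.2 h2
  neg i x := by
    rw [MulAut.conj_apply, Equiv.Perm.one_apply]
    have h1 := R.tor _ (isRoot_sr cs h i).neg t ht
    constructor
    · intro h2; rw [← h1] at h2; exact conj_mem_cj.1 h2
    · intro h2; rw [← h1]; exact conj_mem_cj.2 h2

/-- An element of `T` centralising the groups `X_{α_i}` is central. -/
theorem eq_one_of_cent [Finite W] (hG1 : RGD.Sup X {x | IsRoot cs h x} = ⊤) (hZ : Subgroup.center Y = ⊥) {t : Y}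
    (ht : t ∈ T) (hc : ∀ i, ∀ x ∈ X (sr i), t * x * t⁻¹ = x) : t = 1 := by
  have h1 := Diag.eq_one R hG1 (diag_conj R ht) fun i x hx => by rw [MulAut.conj_apply]; exact hc i x hx
  exact conj_injective_of_center hZ (by rw [h1, map_one])

/-- **The reduction to the frame.** -/
theorem row_of_fixed [Finite W] [Finite Y] [hp : Fact p.Prime] (hG1 : RGD.Sup X {x | IsRoot cs h x} = ⊤)
    (hZ : Subgroup.center Y = ⊥)
    (H : ∀ E : Subgroup (MulAut Y), IsPGroup p E → E ≤ Frame cs h X → ∃ t ∈ T, t ≠ 1 ∧ ∀ β ∈ E, β t = t) :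
    Row p Y := by
  have hG := GG_eq_top (T := T) hG1
  obtain ⟨P, hP⟩ := R.isPGroup_Upos.exists_le_sylow
  have hPU : (P : Subgroup Y) = RGD.Sup X (RGD.Pos cs h) :=
    eq_U_of_isPGroup R P.isPGroup' hP (by rw [hG]; exact le_top)
  refine row_of_sylow P fun A₁ hA hPA => ?_
  rw [hPU] at hPA
  have hUA : ∀ u ∈ RGD.Sup X (RGD.Pos cs h), MulAut.conj u ∈ A₁ := fun u hu => hPA ⟨u, hu, rfl⟩
  -- `A₁ ∩ Inn = conj U`
  have hK : A₁.comap MulAut.conj = RGD.Sup X (RGD.Pos cs h) := by
    refine eq_U_of_isPGroup R ?_ (fun u hu => hUA u hu) (by rw [hG]; exact le_top)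
    rintro ⟨y, hy⟩
    obtain ⟨k, hk⟩ := hA ⟨_, hy⟩
    refine ⟨k, Subtype.ext ?_⟩
    show y ^ p ^ k = 1
    have h1 : MulAut.conj y ^ p ^ k = 1 := congrArg Subtype.val hk
    exact conj_injective_of_center hZ (by rw [map_pow, h1, map_one])
  have hfixU : ∀ α ∈ A₁, Fix α (RGD.Sup X (RGD.Pos cs h)) := by
    have key : ∀ α ∈ A₁, ∀ u ∈ RGD.Sup X (RGD.Pos cs h), α u ∈ RGD.Sup X (RGD.Pos cs h) := by
      intro α hα u hu
      rw [← hK]
      show MulAut.conj (α u) ∈ A₁
      have e : MulAut.conj (α u) = α * MulAut.conj u * α⁻¹ := by rw [mul_conj_eq, mul_inv_cancel_right]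
      rw [e]
      exact mul_mem (mul_mem hα (hUA u hu)) (inv_mem hα)
    intro α hα x
    refine ⟨fun hx => ?_, key α hα x⟩
    have := key α⁻¹ (inv_mem hα) _ hx
    rwa [MulAut.inv_apply_self] at this
  obtain ⟨t, ht, ht1, hfix⟩ := H (A₁ ⊓ Frame cs h X) (hA.to_le inf_le_left) inf_le_right
  have key : ∀ s ∈ T, (∀ β ∈ A₁ ⊓ Frame cs h X, β s = s) → ∀ α ∈ A₁, MulAut.conj s * α * (MulAut.conj s)⁻¹ ∈ A₁ := by
    intro s hs hsf α hα
    obtain ⟨u, hu, hFU, -, hFN, -⟩ := exists_frame R hG (hfixU α hα)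
    have hβ : MulAut.conj u * α ∈ A₁ ⊓ Frame cs h X := ⟨mul_mem (hUA u hu) hα, hFU, hFN⟩
    have h1 := hsf _ hβ
    obtain ⟨β, hβe⟩ : ∃ β, β = MulAut.conj u * α := ⟨_, rfl⟩
    rw [← hβe] at h1 hβ
    have e1 : α = MulAut.conj u⁻¹ * β := by rw [hβe, map_inv, inv_mul_cancel_left]
    have e2 : β * MulAut.conj s = MulAut.conj s * β := by rw [mul_conj_eq, h1]
    have e3 : MulAut.conj s * α * (MulAut.conj s)⁻¹ = MulAut.conj (s * u⁻¹ * s⁻¹) * β := by
      have e4 : β * (MulAut.conj s)⁻¹ = (MulAut.conj s)⁻¹ * β := by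
        rw [eq_inv_mul_iff_mul_eq, ← mul_assoc, ← e2, mul_inv_cancel_right]
      rw [e1, mul_assoc, mul_assoc, e4, map_mul, map_mul, map_inv, map_inv]
      group
    rw [e3]
    refine mul_mem (hUA _ ?_) hβ.1
    exact (Subgroup.mem_normalizer_iff.1 (RGD.T_le_normalizer_U R hs) _).1 (inv_mem hu)
  refine ⟨t, ?_, ?_, ?_⟩
  · intro hdvd
    have h1 : orderOf t ∣ Nat.card T := by
      have := orderOf_dvd_natCard (⟨t, ht⟩ : T)
      rwa [Subgroup.orderOf_mk] at this
    have h2 := Nat.dvd_gcd (hdvd.trans h1) (dvd_refl p)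
    rw [R.tcop] at h2
    exact hp.out.one_lt.ne' (Nat.dvd_one.1 h2)
  · refine mem_normalizer_of (key t ht hfix) fun α hα => ?_
    have := key t⁻¹ (inv_mem ht) (fun β hβ => by rw [map_inv, hfix β hβ]) α hα
    rwa [map_inv, inv_inv] at this
  · intro hc
    apply ht1
    refine eq_one_of_cent R hG1 hZ ht fun i x hx => ?_
    have h1 := Subgroup.mem_centralizer_iff.1 hc _
      (hUA x (RGD.le_Sup (S := RGD.Pos cs h) ⟨isRoot_sr cs h i, sr_nonneg i⟩ hx))
    rw [← map_mul, ← map_mul] at h1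
    have h2 := conj_injective_of_center hZ h1
    rw [← h2, mul_inv_cancel_right]

end

end Cfsg.Agent.H681.GmnRgd
end
end
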