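import Mathlib
import Cfsg.Agent.Nodes.MuSq
import Cfsg.Agent.H681.GmnRgd
import Cfsg.Agent.H410.Types
import Cfsg.Agent.FastGrp
import Cfsg.Agent.Prune
set_option linter.all false
prune_inst 0x7f00000000000000000000000000000000000000000000000000000000000000000000000000000000000000000000000000000000000000000000000000000000000000000000000000000000000000003fffffffffffffffffffffffffffbeffbdffffffff
open scoped Cfsg.Agent.FastGrp

-- part: H681/GmnBond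
section
/-!
# A simple bond at a node fixed by the diagram symmetries of odd order

`M j i = 3`, `k = a⁻¹ v b⁻¹` an element over `s_j`, `v ∈ X_{-j}`, `a, b ∈ X_j`: then `k²` inverts `X_i`.
-/

set_option autoImplicit false
set_option linter.unusedSectionVars false

namespace Cfsg.Agent.H681.GmnBond

open CoxeterSystem Cfsg.Agent.ChevalleyStructure.CoxeterGeom Cfsg.Agent.Tits.Roots Cfsg.Agent.Tits.Core
  Cfsg.Agent.Tits.RootComb Cfsg.Agent.Tits.Exchange Cfsg.Agent.Nodes.Reps Cfsg.Agent.Nodes.BNOf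
  Cfsg.Agent.Nodes.Comb
  Cfsg.Agent.Nodes.StabComb Cfsg.Agent.Nodes.ZFam
  Cfsg.Agent.Nodes.Bruhat Cfsg.Agent.Nodes.OppDec Cfsg.Agent.Nodes.LeviDec Cfsg.Agent.Nodes.NormalForm
  Cfsg.Agent.KFacts.RgdOpp Cfsg.Agent.KFacts.RgdAut Cfsg.Agent.KFacts.RgdDiag Cfsg.Agent.KFacts.RgdRigid
  Cfsg.Agent.H142.GmnPC Cfsg.Agent.H681.GmnRgd
open scoped commutatorElement Pointwise

variable {I W Y : Type*} [Fintype I] [DecidableEq I] [Group W] [Group Y] {M : CoxeterMatrix I}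
  {cs : CoxeterSystem M W} {A : I → I → ℤ} {h : IsCartan M A} {p : ℕ} {T : Subgroup Y} {n : I → Y}
  {X : (I → ℤ) → Subgroup Y}

/-- the roots of the plane of a simple bond -/
theorem roots_three [Finite W] {i j : I} (hij : i ≠ j) (hM : M i j = 3) {z : I → ℤ} (hz : IsRoot cs h z)
    (hs : Supp i j z) : (z i = 1 ∧ z j = 0) ∨ (z i = 1 ∧ z j = 1) ∨ (z i = 0 ∧ z j = 1) ∨
      (z i = -1 ∧ z j = 0) ∨ (z i = -1 ∧ z j = -1) ∨ (z i = 0 ∧ z j = -1) := by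
  obtain ⟨r, h1, h2, e⟩ := Cfsg.Agent.Nodes.PairOf.exists_cyc_nat cs h hij hz hs
  have hA : A i j = -1 ∧ A j i = -1 := by
    rcases h.rel i j hij with ⟨h0, -⟩ | ⟨-, h3⟩ | ⟨h0, -⟩ | ⟨h0, -⟩
    · omega
    · exact h3
    · omega
    · omega
  rw [cyc_eq, hA.1, hA.2, neg_neg] at e
  have ei : z i = (co 1 1 r).1 := by
    rw [e, Pi.add_apply, Pi.smul_apply, Pi.smul_apply, sr_self, sr_ne hij]; simp
  have ej : z j = (co 1 1 r).2 := by
    rw [e, Pi.add_apply, Pi.smul_apply, Pi.smul_apply, sr_self, sr_ne hij.symm]; simp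
  rw [hM] at h2
  have key : ∀ r : ℕ, r < 7 → 1 ≤ r → ((co 1 1 r).1 = 1 ∧ (co 1 1 r).2 = 0) ∨ ((co 1 1 r).1 = 1 ∧ (co 1 1 r).2 = 1) ∨
      ((co 1 1 r).1 = 0 ∧ (co 1 1 r).2 = 1) ∨ ((co 1 1 r).1 = -1 ∧ (co 1 1 r).2 = 0) ∨
      ((co 1 1 r).1 = -1 ∧ (co 1 1 r).2 = -1) ∨ ((co 1 1 r).1 = 0 ∧ (co 1 1 r).2 = -1) := by decide
  rw [ei, ej]
  exact key r (by omega) h1


/-! ### the plane of the bond -/

theorem eq_of_coords {i j : I} {z y : I → ℤ} (hz : Supp i j z) (hy : Supp i j y) (h1 : z i = y i) (h2 : z j = y j) :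
    z = y := by
  funext k
  by_cases hki : k = i
  · rw [hki, h1]
  by_cases hkj : k = j
  · rw [hkj, h2]
  rw [hz k hki hkj, hy k hki hkj]

theorem supp_add (i j : I) : Supp i j (sr i + sr j) := fun k h1 h2 => by
  rw [Pi.add_apply, sr_ne h1, sr_ne h2, add_zero]

theorem btwn_data {i j : I} {x y z : I → ℤ} (hx : Supp i j x) (hy : Supp i j y) (hb : Btwn cs h x y z) :
    Supp i j z ∧ ∃ m a b : ℤ, 0 < m ∧ 0 < a ∧ 0 < b ∧ m * z i = a * x i + b * y i ∧ m * z j = a * x j + b * y j := by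
  obtain ⟨-, m, a, b, hm, ha, hb, e⟩ := hb
  have hc : ∀ k, m * z k = a * x k + b * y k := fun k => by
    have := congrFun e k
    simpa only [Pi.add_apply, Pi.smul_apply, smul_eq_mul] using this
  refine ⟨fun k h1 h2 => ?_, m, a, b, hm, ha, hb, hc i, hc j⟩
  have := hc k
  rw [hx k h1 h2, hy k h1 h2, mul_zero, mul_zero, add_zero] at this
  rcases mul_eq_zero.1 this with h3 | h3
  · omega
  · exact h3

section Plane

variable [Finite W] {i j : I} (hij : i ≠ j) (hM : M i j = 3)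

include hij hM

omit [Finite W] [Fintype I] [DecidableEq I] [Group W] in
theorem cartan (h : IsCartan M A) : A i j = -1 ∧ A j i = -1 := by
  rcases h.rel i j hij with ⟨h0, -⟩ | ⟨-, h3⟩ | ⟨h0, -⟩ | ⟨h0, -⟩
  · omega
  · exact h3
  · omega
  · omega

theorem rep_j : rep cs h (cs.simple j) (sr i) = sr i + sr j := by
  rw [rep_simple_eq, pairing_sr', (cartan hij hM h).2]
  simp

theorem rep_j' : rep cs h (cs.simple j) (sr i + sr j) = sr i := by
  rw [map_add, rep_j hij hM, rep_simple_sr]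
  simp

theorem isRoot_add : IsRoot cs h (sr i + sr j) := by
  rw [← rep_j hij hM (cs := cs) (h := h)]
  exact (isRoot_sr cs h i).act _

theorem no1 (z : I → ℤ) : ¬ Btwn cs h (sr i) (sr i + sr j) z := by
  intro hb
  obtain ⟨hs, m, a, b, hm, ha, hb', e1, e2⟩ := btwn_data (supp_sr_left i j) (supp_add i j) hb
  rw [sr_self, Pi.add_apply, sr_self, sr_ne hij] at e1
  rw [sr_ne hij.symm, Pi.add_apply, sr_ne hij.symm, sr_self] at e2
  rcases roots_three hij hM hb.1 hs with ⟨h1, h2⟩ | ⟨h1, h2⟩ | ⟨h1, h2⟩ | ⟨h1, h2⟩ | ⟨h1, h2⟩ | ⟨h1, h2⟩ <;>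
    rw [h1] at e1 <;> rw [h2] at e2 <;> omega

theorem no2 (z : I → ℤ) : ¬ Btwn cs h (sr j) (sr i + sr j) z := by
  intro hb
  obtain ⟨hs, m, a, b, hm, ha, hb', e1, e2⟩ := btwn_data (supp_sr_right i j) (supp_add i j) hb
  rw [sr_ne hij, Pi.add_apply, sr_self, sr_ne hij] at e1
  rw [sr_self, Pi.add_apply, sr_ne hij.symm, sr_self] at e2
  rcases roots_three hij hM hb.1 hs with ⟨h1, h2⟩ | ⟨h1, h2⟩ | ⟨h1, h2⟩ | ⟨h1, h2⟩ | ⟨h1, h2⟩ | ⟨h1, h2⟩ <;>
    rw [h1] at e1 <;> rw [h2] at e2 <;> omega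

theorem b1 {z : I → ℤ} (hb : Btwn cs h (sr j) (sr i) z) : z = sr i + sr j := by
  obtain ⟨hs, m, a, b, hm, ha, hb', e1, e2⟩ := btwn_data (supp_sr_right i j) (supp_sr_left i j) hb
  rw [sr_self, sr_ne hij] at e1
  rw [sr_ne hij.symm, sr_self] at e2
  refine eq_of_coords hs (supp_add i j) ?_ ?_ <;>
    simp only [Pi.add_apply, sr_self, sr_ne hij, sr_ne hij.symm, add_zero, zero_add] <;>
    rcases roots_three hij hM hb.1 hs with ⟨h1, h2⟩ | ⟨h1, h2⟩ | ⟨h1, h2⟩ | ⟨h1, h2⟩ | ⟨h1, h2⟩ | ⟨h1, h2⟩ <;>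
    rw [h1] at e1 <;> rw [h2] at e2 <;> (clear * - h1 hb' e1 hm ha e2 h2; omega)

theorem b2 {z : I → ℤ} (hb : Btwn cs h (-sr j) (sr i + sr j) z) : z = sr i := by
  obtain ⟨hs, m, a, b, hm, ha, hb', e1, e2⟩ := btwn_data (supp_sr_right i j).neg (supp_add i j) hb
  rw [Pi.neg_apply, Pi.add_apply, sr_self, sr_ne hij] at e1
  rw [Pi.neg_apply, Pi.add_apply, sr_ne hij.symm, sr_self] at e2
  refine eq_of_coords hs (supp_sr_left i j) ?_ ?_ <;>
    simp only [sr_self, sr_ne hij.symm] <;>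
    rcases roots_three hij hM hb.1 hs with ⟨h1, h2⟩ | ⟨h1, h2⟩ | ⟨h1, h2⟩ | ⟨h1, h2⟩ | ⟨h1, h2⟩ | ⟨h1, h2⟩ <;>
    rw [h1] at e1 <;> rw [h2] at e2 <;> (clear * - h1 hb' e1 hm h2 ha e2; omega)

variable (R : RGD cs h p T n X)

/-- **`k²` inverts `X_i`.** -/
theorem inverts {a b v k : Y} (ha : a ∈ X (sr j)) (hb : b ∈ X (sr j)) (hv : v ∈ X (-sr j))
    (hk : Rp cs R.nsys (cs.simple j) k) (e : k = a * v * b) {w : Y} (hw : w ∈ X (sr i)) :
    k * (k * w * k⁻¹) * k⁻¹ = w⁻¹ := by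
  have := Fintype.ofFinite W
  have hri : IsRoot cs h (sr i) := isRoot_sr cs h i
  have hrj : IsRoot cs h (sr j) := isRoot_sr cs h j
  have hrij : IsRoot cs h (sr i + sr j) := isRoot_add hij hM
  have hco : ∀ f g : I → ℤ, f = g → f i = g i ∧ f j = g j := fun f g e => ⟨congrFun e i, congrFun e j⟩
  have c1 : ∀ u ∈ X (sr i), ∀ v ∈ X (-sr j), v * u = u * v := fun u hu v hv => (commute_pos_neg R hij hu hv).eq.symm
  have c2 : ∀ u ∈ X (sr i), ∀ y ∈ X (sr i + sr j), u * y = y * u := fun u hu y hy =>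
    Cfsg.Agent.Nodes.MuSq.comm_one R hri hrij
      (fun e => by have := hco _ _ e; simp [sr_self, sr_ne hij.symm] at this)
      (fun e => by have := hco _ _ e; simp [sr_self, sr_ne hij.symm] at this) (no1 hij hM) hu hy
  have c3 : ∀ u ∈ X (sr j), ∀ y ∈ X (sr i + sr j), u * y = y * u := fun u hu y hy =>
    Cfsg.Agent.Nodes.MuSq.comm_one R hrj hrij
      (fun e => by have := hco _ _ e; simp [sr_self, sr_ne hij] at this)
      (fun e => by have := hco _ _ e; simp [sr_self, sr_ne hij] at this) (no2 hij hM) hu hy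
  have c4 : ∀ u ∈ X (sr j), ∀ w ∈ X (sr i), ⁅u, w⁆ ∈ X (sr i + sr j) := fun u hu w hw =>
    Cfsg.Agent.Nodes.MuSq.comm_in R hrj hri
      (fun e => by have := hco _ _ e; simp [sr_self, sr_ne hij] at this)
      (fun e => by have := hco _ _ e; simp [sr_self, sr_ne hij] at this) (fun z => b1 hij hM) hu hw
  have c5 : ∀ v ∈ X (-sr j), ∀ y ∈ X (sr i + sr j), ⁅v, y⁆ ∈ X (sr i) := fun v hv y hy =>
    Cfsg.Agent.Nodes.MuSq.comm_in R hrj.neg hrij
      (fun e => by have := hco _ _ e; simp [sr_self, sr_ne hij] at this)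
      (fun e => by have := hco _ _ e; simp [sr_self, sr_ne hij] at this) (fun z => b2 hij hM) hv hy
  have n1 : ∀ w ∈ X (sr i), k * w * k⁻¹ ∈ X (sr i + sr j) := fun w hw => by
    have := R.conj_mem hk hri hw
    rwa [rep_j hij hM] at this
  have n2 : ∀ y ∈ X (sr i + sr j), k * y * k⁻¹ ∈ X (sr i) := fun y hy => by
    have := R.conj_mem hk hrij hy
    rwa [rep_j' hij hM] at this
  have hdis : ∀ y, y ∈ X (sr i) → y ∈ X (sr i + sr j) → y = 1 := fun y h1 h2 => by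
    have h3 := X_inf_X R hri hrij (fun e => by have := hco _ _ e; simp [sr_self, sr_ne hij.symm] at this)
    rw [Subgroup.eq_bot_iff_forall] at h3
    exact h3 y ⟨h1, h2⟩
  -- Step A
  have stepA : ∀ w ∈ X (sr i), ⁅v, ⁅b, w⁆⁆ = w⁻¹ ∧ k * w * k⁻¹ = ⁅a, w⁻¹⁆ * ⁅b, w⁆ * ⁅a, w⁆ := by
    intro w hw
    obtain ⟨y, hy⟩ : ∃ y, y = ⁅b, w⁆ := ⟨_, rfl⟩
    have hyX : y ∈ X (sr i + sr j) := by rw [hy]; exact c4 b hb w hw
    obtain ⟨z, hz⟩ : ∃ z, z = ⁅v, y⁆ := ⟨_, rfl⟩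
    have hzX : z ∈ X (sr i) := by rw [hz]; exact c5 v hv y hyX
    obtain ⟨y₁, hy₁⟩ : ∃ y₁, y₁ = ⁅a, z⁆ := ⟨_, rfl⟩
    have hy₁X : y₁ ∈ X (sr i + sr j) := by rw [hy₁]; exact c4 a ha z hzX
    obtain ⟨y₂, hy₂⟩ : ∃ y₂, y₂ = ⁅a, w⁆ := ⟨_, rfl⟩
    have hy₂X : y₂ ∈ X (sr i + sr j) := by rw [hy₂]; exact c4 a ha w hw
    have e1 : b * w * b⁻¹ = y * w := by rw [hy, commutatorElement_def]; group
    have e2 : v * y * v⁻¹ = z * y := by rw [hz, commutatorElement_def]; group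
    have e3 : v * w * v⁻¹ = w := by rw [c1 w hw v hv, mul_inv_cancel_right]
    have e4 : a * z * a⁻¹ = y₁ * z := by rw [hy₁, commutatorElement_def]; group
    have e5 : a * y * a⁻¹ = y := by rw [c3 a ha y hyX, mul_inv_cancel_right]
    have e6 : a * w * a⁻¹ = y₂ * w := by rw [hy₂, commutatorElement_def]; group
    have e7 : k * w * k⁻¹ = z * w * (y₁ * y * y₂) := by
      calc k * w * k⁻¹ = a * (v * (b * w * b⁻¹) * v⁻¹) * a⁻¹ := by rw [e]; group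
        _ = a * (v * y * v⁻¹ * (v * w * v⁻¹)) * a⁻¹ := by rw [e1]; group
        _ = a * z * a⁻¹ * (a * y * a⁻¹) * (a * w * a⁻¹) := by rw [e2, e3]; group
        _ = y₁ * z * y * (y₂ * w) := by rw [e4, e5, e6]
        _ = z * w * (y₁ * y * y₂) := by
          rw [← c2 z hzX y₁ hy₁X, ← c2 w hw y₂ hy₂X]
          calc z * y₁ * y * (w * y₂) = z * ((y₁ * y) * w) * y₂ := by group
            _ = z * (w * (y₁ * y)) * y₂ := by rw [c2 w hw _ (mul_mem hy₁X hyX)]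
            _ = z * w * (y₁ * y * y₂) := by group
    have e8 : z * w = 1 := by
      apply hdis _ (mul_mem hzX hw)
      have h1 := n1 w hw
      rw [e7] at h1
      exact (Subgroup.mul_mem_cancel_right _ (mul_mem (mul_mem hy₁X hyX) hy₂X)).1 h1
    have e9 : z = w⁻¹ := eq_inv_of_mul_eq_one_left e8
    refine ⟨by rw [← hy, ← hz, e9], ?_⟩
    rw [e7, e8, one_mul, hy₁, e9, hy, hy₂]
  -- Step B
  have stepB : ∀ y ∈ X (sr i + sr j), k * y * k⁻¹ = ⁅v, y⁆ := by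
    intro y hyX
    obtain ⟨z, hz⟩ : ∃ z, z = ⁅v, y⁆ := ⟨_, rfl⟩
    have hzX : z ∈ X (sr i) := by rw [hz]; exact c5 v hv y hyX
    obtain ⟨y₁, hy₁⟩ : ∃ y₁, y₁ = ⁅a, z⁆ := ⟨_, rfl⟩
    have hy₁X : y₁ ∈ X (sr i + sr j) := by rw [hy₁]; exact c4 a ha z hzX
    have e1 : b * y * b⁻¹ = y := by rw [c3 b hb y hyX, mul_inv_cancel_right]
    have e2 : v * y * v⁻¹ = z * y := by rw [hz, commutatorElement_def]; group
    have e4 : a * z * a⁻¹ = y₁ * z := by rw [hy₁, commutatorElement_def]; group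
    have e5 : a * y * a⁻¹ = y := by rw [c3 a ha y hyX, mul_inv_cancel_right]
    have e7 : k * y * k⁻¹ = z * (y₁ * y) := by
      calc k * y * k⁻¹ = a * (v * (b * y * b⁻¹) * v⁻¹) * a⁻¹ := by rw [e]; group
        _ = a * z * a⁻¹ * (a * y * a⁻¹) := by rw [e1, e2]; group
        _ = y₁ * z * y := by rw [e4, e5]
        _ = z * (y₁ * y) := by rw [← c2 z hzX y₁ hy₁X]; group
    have e8 : y₁ * y = 1 := by
      apply hdis _ _ (mul_mem hy₁X hyX)
      have h1 := n2 y hyX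
      rw [e7] at h1
      exact (Subgroup.mul_mem_cancel_left _ hzX).1 h1
    rw [e7, e8, mul_one, hz]
  -- Step C
  have homb : ∀ w ∈ X (sr i), ∀ w' ∈ X (sr i), ⁅b, w * w'⁆ = ⁅b, w⁆ * ⁅b, w'⁆ := by
    intro w hw w' hw'
    have e1 : ⁅b, w * w'⁆ = ⁅b, w⁆ * (w * ⁅b, w'⁆ * w⁻¹) := by simp only [commutatorElement_def]; group
    rw [e1, c2 w hw _ (c4 b hb w' hw'), mul_inv_cancel_right]
  have homa : ∀ w ∈ X (sr i), ⁅a, w⁻¹⁆ = ⁅a, w⁆⁻¹ := by
    intro w hw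
    have e1 : ⁅a, w⁻¹⁆ = w⁻¹ * ⁅a, w⁆⁻¹ * w := by simp only [commutatorElement_def]; group
    rw [e1, c2 w⁻¹ (inv_mem hw) _ (inv_mem (c4 a ha w hw)), inv_mul_cancel_right]
  have homv : ∀ y ∈ X (sr i + sr j), ∀ y' ∈ X (sr i + sr j), ⁅v, y * y'⁆ = ⁅v, y⁆ * ⁅v, y'⁆ := by
    intro y hy y' hy'
    have e1 : ⁅v, y * y'⁆ = ⁅v, y⁆ * (y * ⁅v, y'⁆ * y⁻¹) := by simp only [commutatorElement_def]; group
    rw [e1, ← c2 _ (c5 v hv y' hy') y hy, mul_inv_cancel_right]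
  have hab : ∀ w ∈ X (sr i), ∀ w' ∈ X (sr i), w * w' = w' * w := by
    intro w hw w' hw'
    have h1 := (stepA _ (mul_mem hw hw')).1
    rw [homb w hw w' hw', homv _ (c4 b hb w hw) _ (c4 b hb w' hw'), (stepA w hw).1, (stepA w' hw').1] at h1
    have h2 := congrArg (fun x => x⁻¹) h1
    simp only [mul_inv_rev, inv_inv] at h2
    exact h2.symm
  have hAw := c4 a ha w hw
  have hBw := c4 b hb w hw
  rw [(stepA w hw).2, homa w hw]
  have e1 : k * (⁅a, w⁆⁻¹ * ⁅b, w⁆ * ⁅a, w⁆) * k⁻¹ =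
      (k * ⁅a, w⁆ * k⁻¹)⁻¹ * (k * ⁅b, w⁆ * k⁻¹) * (k * ⁅a, w⁆ * k⁻¹) := by group
  rw [e1, stepB _ hBw, (stepA w hw).1, mul_assoc, hab _ (inv_mem hw) _ (n2 _ hAw), inv_mul_cancel_left]

end Plane

/-! ### the theorem -/

section Main

variable [Finite W] [Finite Y] [hp : Fact p.Prime] (R : RGD cs h p T n X)

include R

/-- **The row of a root group datum with a simple bond at a rigid node.** -/
theorem row_of_bond (h2 : p ≠ 2) (hG1 : RGD.Sup X {x | IsRoot cs h x} = ⊤) (hZ : Subgroup.center Y = ⊥)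
    {i j : I} (hij : i ≠ j) (hM : M i j = 3)
    (hfix : ∀ σ : Equiv.Perm I, (∀ a b, M (σ a) (σ b) = M a b) → (∃ k : ℕ, σ ^ p ^ k = 1) → σ j = j) :
    Row p Y := by
  have hG := GG_eq_top (T := T) hG1
  refine row_of_fixed R hG1 hZ fun E hE hEF => ?_
  -- the node `j` is fixed
  have hdiag : ∀ β ∈ E, ∃ σ, _root_.Cfsg.Agent.KFacts.RgdDiag.Diag T X β σ ∧ σ j = j := by
    intro β hβ
    obtain ⟨hU, hUN⟩ := mem_Frame.1 (hEF hβ)
    obtain ⟨σ, D⟩ := exists_diag R hG hU hUN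
    obtain ⟨k, hk⟩ := hE ⟨β, hβ⟩
    have hk' : β ^ p ^ k = 1 := congrArg Subtype.val hk
    refine ⟨σ, D, hfix σ (D.matrix R) ⟨k, ?_⟩⟩
    ext a
    have hD := D.pow (p ^ k)
    rw [hk'] at hD
    obtain ⟨u, hu, hu1⟩ := exists_ne_one R a
    exact Diag.apply_eq R hD hu hu1 rfl
  have hposF : ∀ β ∈ E, _root_.Cfsg.Agent.KFacts.RgdAut.Fix β (X (sr j)) := by
    intro β hβ x
    obtain ⟨σ, D, hσ⟩ := hdiag β hβ
    have := D.pos j x
    rwa [hσ] at this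
  have hnegF : ∀ β ∈ E, _root_.Cfsg.Agent.KFacts.RgdAut.Fix β (X (-sr j)) := by
    intro β hβ x
    obtain ⟨σ, D, hσ⟩ := hdiag β hβ
    have := D.neg j x
    rwa [hσ] at this
  obtain ⟨v, hv, hv1, hvf⟩ := exists_fixed_group hE hnegF (R.pgrp' (isRoot_sr cs h j).neg)
    (X_ne_bot R (isRoot_sr cs h j).neg)
  obtain ⟨a, ha, t, ht, b, hb, e⟩ := R.rk1 j v hv hv1
  obtain ⟨k, hke⟩ : ∃ k, k = t * n j := ⟨_, rfl⟩
  have hk : Rp cs R.nsys (cs.simple j) k := by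
    have := (rp_of_mem (cs := cs) (hN := R.nsys) ht).mul (rp_simple cs R.nsys j)
    rwa [one_mul, ← hke] at this
  have e' : v = a * k * b := by rw [e, hke]; group
  have hkf : ∀ β ∈ E, β k = k := by
    intro β hβ
    obtain ⟨σ, D, hσ⟩ := hdiag β hβ
    have hβk : Rp cs R.nsys (cs.simple j) (β k) := by
      have h1 := (rp_of_mem (cs := cs) (hN := R.nsys) ((D.tor t).2 ht)).mul (D.rp (R := R) j)
      rwa [one_mul, hσ, ← map_mul, ← hke] at h1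
    have h3 : β a * β k * β b = a * k * b := by
      rw [← map_mul, ← map_mul, ← e', hvf β hβ, ]
    have hsub : X (sr j) ≤ RGD.Sup X (RGD.Pos cs h) :=
      RGD.le_Sup (S := RGD.Pos cs h) ⟨isRoot_sr cs h j, sr_nonneg j⟩
    have hsub' : X (sr j) ≤ RGD.Sup X (NW cs h (cs.simple j)) :=
      RGD.le_Sup (S := NW cs h (cs.simple j))
        ⟨isRoot_sr cs h j, sr_nonneg j, by rw [rep_simple_sr]; exact neg_nonpos.2 (sr_nonneg j)⟩
    exact (normal_form_unique R (hsub ((hposF β hβ a).2 ha)) (hsub ha) hβk hk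
      (hsub' ((hposF β hβ b).2 hb)) (hsub' hb) h3).2.1
  have hkk : k * k ∈ T := by
    have h1 := hk.mul hk
    rw [cs.simple_mul_simple_self] at h1
    exact h1.mem_of_one
  obtain ⟨w, hw, hw1⟩ := exists_ne_one R i
  have hinv := inverts hij hM R (inv_mem ha) (inv_mem hb) hv hk (by rw [e']; group) hw
  refine ⟨k * k, hkk, fun h1 => hw1 ?_, fun β hβ => by rw [map_mul, hkf β hβ]⟩
  have h3 : k * (k * w * k⁻¹) * k⁻¹ = (k * k) * w * (k * k)⁻¹ := by group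
  rw [h3, h1, one_mul, inv_one, mul_one] at hinv
  -- `w² = 1`
  obtain ⟨m, hm⟩ := R.pgrp i ⟨w, hw⟩
  have hm' : w ^ p ^ m = 1 := by simpa only [_root_.SubmonoidClass.mk_pow, _root_.OneMemClass.coe_one] using congrArg Subtype.val hm
  have h4 : w ^ 2 = 1 := by rw [pow_two]; nth_rewrite 2 [hinv]; rw [mul_inv_cancel]
  have hcop : Nat.Coprime 2 (p ^ m) := Nat.Coprime.pow_right _ ((Nat.coprime_primes Nat.prime_two hp.out).2 h2.symm)
  have h5 : orderOf w = 1 :=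
    Nat.eq_one_of_dvd_coprimes hcop (orderOf_dvd_of_pow_eq_one h4) (orderOf_dvd_of_pow_eq_one hm')
  exact orderOf_eq_one_iff.1 h5

end Main

end Cfsg.Agent.H681.GmnBond
end

-- part: H681/GmnTypes
section
/-!
# The rows of the groups of Lie type of rank at least two with a simple bond

* `Rigid p M` : a node `j` fixed by all the symmetries of the diagram `M` of `p`-power order, with a simple bond at `j`;
* `rigid_A`, `rigid_B`, `rigid_D`, `rigid_F4`, `rigid_E6`, `rigid_E7`, `rigid_E8`;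
* `row_of_rigid` : `HasRGDT p M G`, `Rigid p M`, `p` odd, `Z(G) = 1` ⟹ `Row p G`.
-/

set_option autoImplicit false
set_option linter.unusedSectionVars false

namespace Cfsg.Agent.H681.GmnTypes

open CoxeterSystem Cfsg.Agent.ChevalleyStructure.CoxeterGeom Cfsg.Agent.Tits.Roots Cfsg.Agent.Tits.Core
  Cfsg.Agent.Nodes.Reps Cfsg.Agent.Nodes.BNOf Cfsg.Agent.LieRecognition.BNCox Cfsg.Agent.Omega.ML.Ex.Typ
  Cfsg.Agent.H142.GmnPC Cfsg.Agent.H681.GmnRgd Cfsg.Agent.H681.GmnBond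

/-- A node `j` fixed by the symmetries of `p`-power order of the diagram, with a simple bond at `j`. -/
def Rigid (p : ℕ) {I : Type*} (M : CoxeterMatrix I) : Prop :=
  ∃ i j, i ≠ j ∧ M i j = 3 ∧ ∀ σ : Equiv.Perm I, (∀ a b, M (σ a) (σ b) = M a b) → (∃ k : ℕ, σ ^ p ^ k = 1) → σ j = j

theorem fix_of_two {I : Type*} {p k : ℕ} (hp : p.Prime) (hp2 : p ≠ 2) {σ : Equiv.Perm I} (hσ : σ ^ p ^ k = 1)
    {c c' : I} (h1 : σ c = c ∨ σ c = c') (h2 : σ c' = c ∨ σ c' = c') : σ c = c := by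
  rcases h1 with h1 | h1
  · exact h1
  have h3 : (σ ^ 2) c = c := by
    rw [pow_two, Equiv.Perm.mul_apply, h1]
    rcases h2 with h2 | h2
    · exact h2
    · have h4 := σ.injective (h1.trans h2.symm)
      rw [← h4] at h2 ⊢
      exact h2
  have hodd : Odd (p ^ k) := (hp.odd_of_ne_two hp2).pow
  obtain ⟨m, hm⟩ := hodd
  have h4 : ∀ m : ℕ, ((σ ^ 2) ^ m) c = c := by
    intro m
    induction m with
    | zero => rfl
    | succ m ih => rw [pow_succ, Equiv.Perm.mul_apply, h3, ih]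
  have h5 : (σ ^ p ^ k) c = c := by rw [hσ]; rfl
  rw [hm, pow_succ', pow_mul, Equiv.Perm.mul_apply, h4] at h5
  exact h5

/-! ### type `A` -/

theorem rigid_A {p : ℕ} (hp : p.Prime) (hp2 : p ≠ 2) {n : ℕ} (hn : 2 ≤ n) : Rigid p (cA n) := by
  have hadj : ∀ a b : Fin n, cA n a b = 3 ↔ (a : ℕ) + 1 = b ∨ (b : ℕ) + 1 = a := by
    intro a b
    rw [cA_apply]
    unfold LieRecognition.CoxClass.mA
    split_ifs <;> omega
  refine ⟨⟨1, by omega⟩, ⟨0, by omega⟩, by simp, (hadj _ _).2 (by simp), ?_⟩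
  rintro σ hσ ⟨k, hk⟩
  have hadj' : ∀ a b : Fin n, cA n (σ a) (σ b) = 3 ↔ (a : ℕ) + 1 = b ∨ (b : ℕ) + 1 = a := fun a b => by
    rw [hσ, hadj]
  -- the end nodes
  have hend : ∀ c : Fin n, (c : ℕ) = 0 ∨ (c : ℕ) = n - 1 → (σ c : ℕ) = 0 ∨ (σ c : ℕ) = n - 1 := by
    intro c hc
    by_contra hcon
    push Not at hcon
    obtain ⟨x, hx⟩ : ∃ x, σ x = ⟨(σ c : ℕ) - 1, by omega⟩ := ⟨_, σ.apply_symm_apply _⟩
    obtain ⟨y, hy⟩ : ∃ y, σ y = ⟨(σ c : ℕ) + 1, by have := (σ c).2; omega⟩ := ⟨_, σ.apply_symm_apply _⟩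
    have hx' : (σ x : ℕ) = σ c - 1 := by rw [hx]
    have hy' : (σ y : ℕ) = σ c + 1 := by rw [hy]
    have h1 : cA n (σ c) (σ x) = 3 := by
      rw [hadj, hx']; omega
    have h2 : cA n (σ c) (σ y) = 3 := by
      rw [hadj, hy']; omega
    rw [hadj'] at h1 h2
    have hxy : x = y := by
      apply Fin.ext
      have := x.2
      have := y.2
      (clear * - hc h1 h2; omega)
    rw [hxy, hy, Fin.mk.injEq] at hx
    omega
  refine fix_of_two hp hp2 hk (c' := ⟨n - 1, by omega⟩) ?_ ?_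
  · rcases hend ⟨0, by omega⟩ (Or.inl rfl) with h | h
    · exact Or.inl (Fin.ext h)
    · exact Or.inr (Fin.ext h)
  · rcases hend ⟨n - 1, by omega⟩ (Or.inr rfl) with h | h
    · exact Or.inl (Fin.ext h)
    · exact Or.inr (Fin.ext h)

/-! ### type `B` -/

theorem rigid_B {p : ℕ} (hp : p.Prime) (hp2 : p ≠ 2) {n : ℕ} (hn : 3 ≤ n) : Rigid p (CoxeterMatrix.B n) := by
  have h3 : ∀ a b : Fin n, CoxeterMatrix.B n a b = 4 ↔
      (a : ℕ) = n - 1 ∧ (b : ℕ) = n - 2 ∨ (b : ℕ) = n - 1 ∧ (a : ℕ) = n - 2 := by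
    intro a b
    rw [H410.Types.B_apply]
    by_cases hab : a = b
    · rw [if_pos hab, hab]
      omega
    · rw [if_neg hab]
      split_ifs <;> omega
  refine ⟨⟨n - 3, by omega⟩, ⟨n - 2, by omega⟩, by simp only [ne_eq, Fin.mk.injEq]; omega, ?_, ?_⟩
  · rw [H410.Types.B_apply, if_neg (by simp only [Fin.mk.injEq]; omega), if_neg (by simp only; omega),
      if_pos (by simp only; omega)]
  rintro σ hσ ⟨k, hk⟩
  have h4 : CoxeterMatrix.B n (σ ⟨n - 2, by omega⟩) (σ ⟨n - 1, by omega⟩) = 4 := by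
    rw [hσ]; exact (h3 _ _).2 (Or.inr ⟨rfl, rfl⟩)
  rw [h3] at h4
  refine fix_of_two hp hp2 hk (c' := ⟨n - 1, by omega⟩) ?_ ?_
  · rcases h4 with h | h
    · exact Or.inr (Fin.ext h.1)
    · exact Or.inl (Fin.ext h.2)
  · rcases h4 with h | h
    · exact Or.inl (Fin.ext h.2)
    · exact Or.inr (Fin.ext h.1)

/-! ### type `D` -/

theorem rigid_D (p : ℕ) {n : ℕ} (hn : 1 ≤ n) : Rigid p (Nodes.TypeD.M (n + 1)) := by
  have hadj : ∀ a b : Fin (n + 1 + 2), Nodes.TypeD.M (n + 1) a b = 3 ↔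
      a ≠ b ∧ (Nodes.TypeD.Adj a b ∨ Nodes.TypeD.Adj b a) := by
    intro a b
    rw [Nodes.TypeD.M_apply]
    by_cases hab : a = b
    · rw [if_pos hab, hab]; simp
    · rw [if_neg hab]
      by_cases h : Nodes.TypeD.Adj a b ∨ Nodes.TypeD.Adj b a
      · rw [if_pos h]; exact ⟨fun _ => ⟨hab, h⟩, fun _ => rfl⟩
      · rw [if_neg h]; exact ⟨fun h1 => absurd h1 (by decide), fun h1 => absurd h1.2 h⟩
  obtain ⟨c, hc⟩ : ∃ c : Fin (n + 1 + 2), (c : ℕ) = n := ⟨⟨n, by omega⟩, rfl⟩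
  obtain ⟨x, hx⟩ : ∃ x : Fin (n + 1 + 2), (x : ℕ) = n - 1 := ⟨⟨n - 1, by omega⟩, rfl⟩
  obtain ⟨y, hy⟩ : ∃ y : Fin (n + 1 + 2), (y : ℕ) = n + 1 := ⟨⟨n + 1, by omega⟩, rfl⟩
  obtain ⟨z, hz⟩ : ∃ z : Fin (n + 1 + 2), (z : ℕ) = n + 2 := ⟨⟨n + 2, by omega⟩, rfl⟩
  have hcx : Nodes.TypeD.M (n + 1) c x = 3 := by
    rw [hadj]; unfold Nodes.TypeD.Adj; exact ⟨fun h => by rw [h] at hc; omega, by (clear * - hn hc hx; omega)⟩
  have hcy : Nodes.TypeD.M (n + 1) c y = 3 := by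
    rw [hadj]; unfold Nodes.TypeD.Adj; exact ⟨fun h => by rw [h] at hc; omega, by omega⟩
  have hcz : Nodes.TypeD.M (n + 1) c z = 3 := by
    rw [hadj]; unfold Nodes.TypeD.Adj; exact ⟨fun h => by rw [h] at hc; omega, by omega⟩
  refine ⟨x, c, fun h => by rw [h] at hx; omega, by rw [CoxeterMatrix.symmetric]; exact hcx, ?_⟩
  rintro σ hσ -
  have h1 : Nodes.TypeD.M (n + 1) (σ c) (σ x) = 3 := by rw [hσ]; exact hcx
  have h2 : Nodes.TypeD.M (n + 1) (σ c) (σ y) = 3 := by rw [hσ]; exact hcy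
  have h3 : Nodes.TypeD.M (n + 1) (σ c) (σ z) = 3 := by rw [hσ]; exact hcz
  rw [hadj] at h1 h2 h3
  unfold Nodes.TypeD.Adj at h1 h2 h3
  have hxy : (σ x : ℕ) ≠ σ y := fun h => by
    have := σ.injective (Fin.ext h)
    rw [this] at hx; (clear * - hx hy; omega)
  have hxz : (σ x : ℕ) ≠ σ z := fun h => by
    have := σ.injective (Fin.ext h)
    rw [this] at hx; (clear * - hx hz; omega)
  have hyz : (σ y : ℕ) ≠ σ z := fun h => by
    have := σ.injective (Fin.ext h)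
    rw [this] at hy; omega
  have hb := (σ c).2
  apply Fin.ext
  (clear * - hc h1 h2 h3 hxy hxz hyz; omega)

/-! ### exceptional types -/

theorem inv_step {l : ℕ} {M : CoxeterMatrix (Fin l)} {σ : Equiv.Perm (Fin l)}
    (hσ : ∀ i j, M (σ i) (σ j) = M i j) {g g' : Fin l → ℕ} (hg : ∀ i, g (σ i) = g i)
    (h : ∀ i, g' i = ∑ j, if M i j = 2 ∨ M i j = 1 then 0 else g j) (i : Fin l) : g' (σ i) = g' i := by
  rw [h, h, ← Equiv.sum_comp σ]
  refine Finset.sum_congr rfl fun j _ => ?_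
  rw [hσ, hg]

theorem rigid_F4 {p : ℕ} (hp : p.Prime) (hp2 : p ≠ 2) : Rigid p CoxeterMatrix.F₄ := by
  refine ⟨1, 0, by decide, by decide, ?_⟩
  rintro σ hσ ⟨k, hk⟩
  have h1 : ∀ i, ![1, 2, 2, 1] (σ i) = ![1, 2, 2, 1] i :=
    inv_step hσ (g := fun _ => 1) (fun _ => rfl) (by decide)
  have h2 : ∀ a : Fin 4, ![1, 2, 2, 1] a = 1 → a = 0 ∨ a = 3 := by decide
  exact fix_of_two hp hp2 hk (h2 _ (h1 0)) (h2 _ (h1 3))

theorem rigid_E6 (p : ℕ) : Rigid p CoxeterMatrix.E₆ := by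
  refine ⟨1, 3, by decide, by decide, ?_⟩
  rintro σ hσ -
  have h1 : ∀ i, ![1, 1, 2, 3, 2, 1] (σ i) = ![1, 1, 2, 3, 2, 1] i :=
    inv_step hσ (g := fun _ => 1) (fun _ => rfl) (by decide)
  have h2 : ∀ a : Fin 6, ![1, 1, 2, 3, 2, 1] a = 3 → a = 3 := by decide
  exact h2 _ (h1 3)

theorem rigid_E7 (p : ℕ) : Rigid p CoxeterMatrix.E₇ := by
  refine ⟨1, 3, by decide, by decide, ?_⟩
  rintro σ hσ -
  have h1 : ∀ i, ![1, 1, 2, 3, 2, 2, 1] (σ i) = ![1, 1, 2, 3, 2, 2, 1] i :=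
    inv_step hσ (g := fun _ => 1) (fun _ => rfl) (by decide +kernel)
  have h2 : ∀ a : Fin 7, ![1, 1, 2, 3, 2, 2, 1] a = 3 → a = 3 := by decide
  exact h2 _ (h1 3)

theorem rigid_E8 (p : ℕ) : Rigid p CoxeterMatrix.E₈ := by
  refine ⟨1, 3, by decide, by decide, ?_⟩
  rintro σ hσ -
  have h1 : ∀ i, ![1, 1, 2, 3, 2, 2, 2, 1] (σ i) = ![1, 1, 2, 3, 2, 2, 2, 1] i :=
    inv_step hσ (g := fun _ => 1) (fun _ => rfl) (by decide +kernel)
  have h2 : ∀ a : Fin 8, ![1, 1, 2, 3, 2, 2, 2, 1] a = 3 → a = 3 := by decide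
  exact h2 _ (h1 3)

/-! ### the row -/

theorem row_of_rigid {p l : ℕ} {M : CoxeterMatrix (Fin l)} {G : Type*} [Group G] [Finite G] (hp : p.Prime)
    (hp2 : p ≠ 2) (hM : Rigid p M) (hZ : Subgroup.center G = ⊥) (hG : HasRGDT p M G) : Row p G := by
  have : Fact p.Prime := ⟨hp⟩
  obtain ⟨A, h, T, n, X, hW, R, hX⟩ := hG
  obtain ⟨i, j, hij, h3, hf⟩ := hM
  exact row_of_bond R hp2 hX hZ hij h3 hf

end Cfsg.Agent.H681.GmnTypes
end
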