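import Mathlib
import Cfsg.Agent.H681.DegBasic
import Cfsg.Agent.S0187
import Cfsg.Agent.Transfer.PGroupNormal
set_option linter.all false

-- part: H681/FrobDeg
section
/-!
# Degrees over a Frobenius quotient (Isaacs, Character theory, Theorem 12.4, `p'`-version)

`π : G →* Q` surjective, `V` an abelian normal `p`-subgroup of `Q` with `C_Q(v) ≤ V` for all
`1 ≠ v ∈ V`, `N` the preimage of `V` in `G`. If `ψ ∈ Irr(N)` has degree prime to `p` then
`[Q : V] ψ(1)` is a character degree of `G`.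
-/

set_option autoImplicit false

namespace Cfsg.Agent.H681.FrobDeg

open Cfsg Cfsg.Agent.Characters.Core Cfsg.Agent.H681.DegBasic

variable {Q : Type*} [Group Q] [Finite Q] (V : Subgroup Q) [hVn : V.Normal]

/-- The index of the kernel is smaller than its order. -/
theorem index_lt (hfpf : ∀ g, g ∉ V → ∀ v ∈ V, g * v = v * g → v = 1) (hV1 : V ≠ ⊥) :
    V.index < Nat.card V := by
  classical
  obtain ⟨⟨v0, hv0⟩, hv01⟩ := Subgroup.ne_bot_iff_exists_ne_one.1 hV1
  have hv01' : (v0 : Q) ≠ 1 := fun h => hv01 (Subtype.ext h)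
  have hinj : Function.Injective (fun q : Q ⧸ V =>
      (⟨q.out * v0 * q.out⁻¹, hVn.conj_mem v0 hv0 _⟩ : V)) := by
    intro q r hqr
    have h1 : q.out * v0 * q.out⁻¹ = r.out * v0 * r.out⁻¹ := congrArg Subtype.val hqr
    have h2 : (r.out⁻¹ * q.out) * v0 = v0 * (r.out⁻¹ * q.out) := by
      have h3 : r.out⁻¹ * (q.out * v0 * q.out⁻¹) * q.out = r.out⁻¹ * (r.out * v0 * r.out⁻¹) * q.out := by
        rw [h1]
      simpa [mul_assoc] using h3
    by_contra hne
    apply hv01'
    refine hfpf (r.out⁻¹ * q.out) (fun hmem => hne ?_) v0 hv0 h2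
    rw [← QuotientGroup.out_eq' q, ← QuotientGroup.out_eq' r]
    exact (QuotientGroup.eq.2 hmem).symm
  have hlt : Nat.card (Q ⧸ V) < Nat.card V := by
    have := Fintype.ofFinite (Q ⧸ V)
    have := Fintype.ofFinite V
    rw [Nat.card_eq_fintype_card, Nat.card_eq_fintype_card]
    refine Fintype.card_lt_of_injective_of_notMem _ hinj (b := 1) ?_
    rintro ⟨q, hq⟩
    have h1 : q.out * v0 * q.out⁻¹ = 1 := congrArg Subtype.val hq
    apply hv01'
    have h2 := congrArg (fun x => q.out⁻¹ * x * q.out) h1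
    simpa [mul_assoc] using h2
  exact hlt

/-- A linear character of the kernel invariant under an element outside is trivial. -/
theorem eq_one_of_invariant (hab : ∀ a ∈ V, ∀ b ∈ V, a * b = b * a)
    (hfpf : ∀ g, g ∉ V → ∀ v ∈ V, g * v = v * g → v = 1) {g : Q} (hg : g ∉ V) (l : V →* ℂˣ)
    (h : ∀ v : V, l ⟨g * v * g⁻¹, hVn.conj_mem v v.2 g⟩ = l v) : l = 1 := by
  classical
  have hinj : Function.Injective (fun v : V =>
      (⟨g * v * g⁻¹, hVn.conj_mem v v.2 g⟩ : V) * v⁻¹) := by
    intro v w hvw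
    have h1 : g * v * g⁻¹ * (v : Q)⁻¹ = g * w * g⁻¹ * (w : Q)⁻¹ := congrArg Subtype.val hvw
    have h2 : g * ((w : Q)⁻¹ * v) = ((w : Q)⁻¹ * v) * g := by
      have hc1 := hab (g * v * g⁻¹) (hVn.conj_mem v v.2 g) ((w : Q)⁻¹) (V.inv_mem w.2)
      have hc2 := hab (v : Q) v.2 ((w : Q)⁻¹) (V.inv_mem w.2)
      have h3 : (g * w * g⁻¹)⁻¹ * (g * v * g⁻¹) = (w : Q)⁻¹ * v := by
        have h4 : g * v * g⁻¹ = g * w * g⁻¹ * (w : Q)⁻¹ * v := by
          rw [← h1]; group
        rw [h4]; group
      have h5 : (g * w * g⁻¹)⁻¹ * (g * v * g⁻¹) = g * ((w : Q)⁻¹ * v) * g⁻¹ := by group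
      rw [h5] at h3
      exact mul_inv_eq_iff_eq_mul.1 h3
    have h6 := hfpf g hg ((w : Q)⁻¹ * v) (V.mul_mem (V.inv_mem w.2) v.2) h2
    exact Subtype.ext (inv_mul_eq_one.1 h6).symm
  have hsurj := Finite.surjective_of_injective hinj
  ext v
  obtain ⟨w, rfl⟩ := hsurj v
  simp only [map_mul, map_inv, h, mul_inv_cancel]
  simp

/-- **Isaacs, Theorem 12.4** (`p'`-version). -/
theorem index_mul_mem {G : Type*} [Group G] [Finite G] (π : G →* Q)
    (hπ : Function.Surjective π) (hab : ∀ a ∈ V, ∀ b ∈ V, a * b = b * a)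
    (hfpf : ∀ g, g ∉ V → ∀ v ∈ V, g * v = v * g → v = 1) (hV1 : V ≠ ⊥) {p m : ℕ}
    (hVp : ∀ v ∈ V, v ^ p ^ m = 1) (N : Subgroup G) [hNn : N.Normal] (hN : N = V.comap π)
    {ψ : N → ℂ} (hψ : IsIrrCharacter N ψ) {d : ℕ} (hd : ψ 1 = d) (hpd : d.Coprime p) :
    V.index * d ∈ charDegrees G := by
  classical
  have hmemN : ∀ g, g ∈ N ↔ π g ∈ V := fun g => by rw [hN]; rfl
  let j : N →* V := (π.comp N.subtype).codRestrict V (fun n => (hmemN n).1 n.2)
  have hj : ∀ n : N, (j n : Q) = π n := fun n => rfl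
  have hjs : Function.Surjective j := by
    rintro ⟨v, hv⟩
    obtain ⟨g, rfl⟩ := hπ v
    exact ⟨⟨g, (hmemN g).2 hv⟩, rfl⟩
  let θ : (V →* ℂˣ) → N → ℂ := fun l n => ψ n * (l (j n) : ℂ)
  have hθirr : ∀ l, IsIrrCharacter N (θ l) := by
    intro l
    obtain ⟨k, ρ, hρ, hρψ⟩ := hψ
    refine ⟨k, Cfsg.Agent.CharDeep.Twist.twist (l.comp j) ρ,
      Cfsg.Agent.CharDeep.Twist.twist_irreducible _ _ hρ, ?_⟩
    funext n
    rw [Cfsg.Agent.CharDeep.Twist.twist_character, hρψ, mul_comm]
    rfl
  have hθ1 : ∀ l, θ l 1 = d := by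
    intro l
    simp [θ, hd]
  -- it suffices to find `l` with inertia group `N`
  suffices hex : ∃ l : V →* ℂˣ, ∀ g : G,
      (∀ n : N, θ l ⟨g * n * g⁻¹, hNn.conj_mem n n.2 g⟩ = θ l n) → g ∈ N by
    obtain ⟨l, hl⟩ := hex
    have h1 := induced_degree N (hθirr l) (hθ1 l) hl
    have h2 : N.index = V.index := by rw [hN]; exact Subgroup.index_comap_of_surjective V hπ
    rwa [h2] at h1
  by_contra hcon
  push Not at hcon
  choose g hg hgN using hcon
  have hψ0 : ∀ n : N, (fun n : N => ψ n) n = ψ n := fun n => rfl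
  -- the map `l ↦ π (g l)` modulo `V` is injective
  have hinj : Function.Injective (fun l : V →* ℂˣ => (π (g l) : Q ⧸ V)) := by
    intro l l' hll
    have hmem : (π (g l))⁻¹ * π (g l') ∈ V := QuotientGroup.eq.1 hll
    -- write `g l' = g l * n`
    obtain ⟨x, hx⟩ : ∃ x : N, g l' = g l * x :=
      ⟨⟨(g l)⁻¹ * g l', by
        rw [hmemN, map_mul, map_inv]; exact hmem⟩, by simp⟩
    -- both twists are invariant under `g l`
    have hcl := isIrr_isClassFunction (hθirr l')
    have hg' : ∀ n : N, θ l' ⟨g l * n * (g l)⁻¹, hNn.conj_mem n n.2 (g l)⟩ = θ l' n := by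
      intro n
      have h1 := hg l' (x⁻¹ * n * x)
      have h2 : (⟨g l' * ((x⁻¹ * n * x : N) : G) * (g l')⁻¹,
          hNn.conj_mem _ (x⁻¹ * n * x : N).2 (g l')⟩ : N) =
          ⟨g l * n * (g l)⁻¹, hNn.conj_mem n n.2 (g l)⟩ := by
        apply Subtype.ext
        simp only [Subgroup.coe_mul, Subgroup.coe_inv]
        rw [hx]
        group
      rw [h2] at h1
      rw [h1]
      have h3 := hcl n x⁻¹
      rwa [inv_inv] at h3
    -- the ratio
    have hratio : ∀ n : N, ψ n * (((l * l'⁻¹) (j n) * ((l * l'⁻¹)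
        (j ⟨g l * n * (g l)⁻¹, hNn.conj_mem n n.2 (g l)⟩))⁻¹ : ℂˣ) : ℂ) = ψ n := by
      intro n
      set n' : N := ⟨g l * n * (g l)⁻¹, hNn.conj_mem n n.2 (g l)⟩ with hn'
      have h1 : ψ n' * (l (j n') : ℂ) = ψ n * (l (j n) : ℂ) := hg l n
      have h2 : ψ n' * (l' (j n') : ℂ) = ψ n * (l' (j n) : ℂ) := hg' n
      have ha := Units.ne_zero (l (j n'))
      have hb := Units.ne_zero (l' (j n'))
      have hc := Units.ne_zero (l (j n))
      have hd' := Units.ne_zero (l' (j n))
      have h3 : ψ n * ((l (j n) : ℂ) * (l' (j n') : ℂ)) = ψ n * ((l' (j n) : ℂ) * (l (j n') : ℂ)) := by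
        linear_combination (-(l' (j n') : ℂ)) * h1 + (l (j n') : ℂ) * h2
      push_cast [MonoidHom.mul_apply, MonoidHom.inv_apply, Units.val_mul]
      have h4 : ψ n * ((l (j n) : ℂ) * ((l' (j n) : ℂ))⁻¹ * ((l (j n') : ℂ) * ((l' (j n') : ℂ))⁻¹)⁻¹) =
          (ψ n * ((l (j n) : ℂ) * (l' (j n') : ℂ))) * ((l' (j n) : ℂ) * (l (j n') : ℂ))⁻¹ := by
        field_simp
      rw [h4, h3]
      field_simp
    let μ : V →* ℂˣ := l * l'⁻¹
    let c : N →* N := (MulAut.conjNormal (g l) : MulAut N)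
    have hc : ∀ n : N, c n = ⟨g l * n * (g l)⁻¹, hNn.conj_mem n n.2 (g l)⟩ := fun n => rfl
    let L : N →* ℂˣ := (μ.comp j) * (μ.comp (j.comp c))⁻¹
    have hL : L = 1 := by
      refine twist_eq_one hψ hd hpd (m := m) L ?_ ?_
      · intro n
        have h1 : ∀ v : V, μ v ^ p ^ m = 1 := by
          intro v
          rw [← map_pow]
          have : v ^ p ^ m = 1 := Subtype.ext (hVp v v.2)
          rw [this, map_one]
        show (μ (j n) * (μ (j (c n)))⁻¹) ^ p ^ m = 1
        rw [mul_pow, inv_pow, h1, h1, inv_one, mul_one]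
      · intro n
        exact hratio n
    have hμ : μ = 1 := by
      refine eq_one_of_invariant V hab hfpf (g := π (g l)) (fun h => hgN l ((hmemN _).2 h)) μ ?_
      intro v
      obtain ⟨n, rfl⟩ := hjs v
      have h1 := DFunLike.congr_fun hL n
      have h2 : μ (j n) * (μ (j (c n)))⁻¹ = 1 := h1
      have h3 : μ (j n) = μ (j (c n)) := mul_inv_eq_one.1 h2
      rw [h3]
      congr 1
      apply Subtype.ext
      simp [hj, hc]
    exact mul_inv_eq_one.1 hμ
  have hlt := index_lt V hfpf hV1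
  have hcardV : Nat.card (V →* ℂˣ) = Nat.card V := by
    rw [Cfsg.Agent.Characters.Linear.card_hom_eq_index_commutator]
    have hcomm : commutator V = ⊥ := by
      rw [commutator_eq_bot_iff_center_eq_top, Subgroup.eq_top_iff']
      intro a
      rw [Subgroup.mem_center_iff]
      intro b
      exact Subtype.ext (hab b b.2 a a.2)
    rw [hcomm, Subgroup.index_bot]
  have hle := Nat.card_le_card_of_injective _ hinj
  rw [hcardV] at hle
  exact absurd hlt (not_lt.2 hle)

end Cfsg.Agent.H681.FrobDeg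
end

-- part: H681/MinNonab
section
/-!
# Solvable groups all of whose proper quotients are abelian (Isaacs, Lemma 12.3)

`Q` a finite solvable non-abelian group in which the commutator subgroup is contained in every
nontrivial normal subgroup. Then for some prime `p` the commutator subgroup `V` is abelian of
exponent `p`, and either `Q` is a `p`-group, or `C_Q(v) = V` for every `1 ≠ v ∈ V`.
-/

set_option autoImplicit false

namespace Cfsg.Agent.H681.MinNonab

variable {Q : Type*} [Group Q]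

/-- A maximal normal subgroup not containing the commutator subgroup. -/
theorem exists_quotient {G : Type*} [Group G] [Finite G] (hG : commutator G ≠ ⊥) :
    ∃ K : Subgroup G, ∃ _ : K.Normal, commutator (G ⧸ K) ≠ ⊥ ∧
      ∀ M : Subgroup (G ⧸ K), M.Normal → M ≠ ⊥ → commutator (G ⧸ K) ≤ M := by
  classical
  let S : Set (Subgroup G) := {K | K.Normal ∧ ¬ commutator G ≤ K}
  have hS : S.Nonempty := ⟨⊥, inferInstance, fun h => hG (le_bot_iff.1 h)⟩
  obtain ⟨K, hK⟩ := (Set.toFinite S).exists_maximal hS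
  obtain ⟨⟨hKn, hKc⟩, hmax⟩ := hK
  have hmap : commutator (G ⧸ K) = (commutator G).map (QuotientGroup.mk' K) := by
    rw [commutator_def, commutator_def, Subgroup.map_commutator,
      Subgroup.map_top_of_surjective _ (QuotientGroup.mk'_surjective K)]
  refine ⟨K, hKn, ?_, ?_⟩
  · intro h
    apply hKc
    rw [hmap, Subgroup.map_eq_bot_iff, QuotientGroup.ker_mk'] at h
    exact h
  · intro M hM hM1
    have hcomap : (M.comap (QuotientGroup.mk' K)).Normal := hM.comap _
    have hle : K ≤ M.comap (QuotientGroup.mk' K) := by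
      intro k hk
      rw [Subgroup.mem_comap]
      have : QuotientGroup.mk' K k = 1 := (QuotientGroup.eq_one_iff k).2 hk
      rw [this]; exact M.one_mem
    by_contra hcon
    have hmem : M.comap (QuotientGroup.mk' K) ∈ S := by
      refine ⟨hcomap, fun h => hcon ?_⟩
      rw [hmap]
      exact Subgroup.map_le_iff_le_comap.2 h
    have hge := hmax hmem hle
    apply hM1
    rw [eq_bot_iff]
    intro q hq
    obtain ⟨g, rfl⟩ := QuotientGroup.mk'_surjective K q
    have : g ∈ K := hge (Subgroup.mem_comap.2 hq)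
    exact Subgroup.mem_bot.2 ((QuotientGroup.eq_one_iff g).2 this)

variable [Finite Q]

/-- The commutator subgroup is abelian. -/
theorem comm_of_mem [Group.IsSolvable Q] (h1 : commutator Q ≠ ⊥)
    (hmin : ∀ M : Subgroup Q, M.Normal → M ≠ ⊥ → commutator Q ≤ M) :
    ∀ a ∈ commutator Q, ∀ b ∈ commutator Q, a * b = b * a := by
  by_contra hcon
  have hne : ⁅commutator Q, commutator Q⁆ ≠ ⊥ := by
    intro h
    apply hcon
    intro a ha b hb
    have := Subgroup.commutator_eq_bot_iff_le_centralizer.1 h ha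
    rw [Subgroup.mem_centralizer_iff] at this
    exact (this b hb).symm
  have hle := hmin ⁅commutator Q, commutator Q⁆ inferInstance hne
  have hstab : ∀ n, 1 ≤ n → commutator Q ≤ derivedSeries Q n := by
    intro n hn
    induction n with
    | zero => omega
    | succ n ih =>
      rcases Nat.eq_zero_or_pos n with rfl | hn'
      · exact le_of_eq (derivedSeries_one Q).symm
      · rw [derivedSeries_succ]
        exact hle.trans (Subgroup.commutator_mono (ih hn') (ih hn'))
  obtain ⟨n, hn⟩ := (inferInstance : Group.IsSolvable Q).solvable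
  have h2 := hstab (n + 1) (by omega)
  rw [derivedSeries_succ, hn] at h2
  apply h1
  rw [eq_bot_iff]
  refine h2.trans ?_
  simp

/-- The commutator subgroup has prime exponent. -/
theorem exists_prime (h1 : commutator Q ≠ ⊥)
    (hab : ∀ a ∈ commutator Q, ∀ b ∈ commutator Q, a * b = b * a)
    (hmin : ∀ M : Subgroup Q, M.Normal → M ≠ ⊥ → commutator Q ≤ M) :
    ∃ p : ℕ, p.Prime ∧ ∀ v ∈ commutator Q, v ^ p = 1 := by
  have hcard : Nat.card (commutator Q) ≠ 1 := by
    intro h
    exact h1 (Subgroup.card_eq_one.1 h)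
  obtain ⟨p, hp, hpd⟩ := Nat.exists_prime_and_dvd hcard
  refine ⟨p, hp, ?_⟩
  have := Fact.mk hp
  let M : Subgroup Q :=
    { carrier := {v | v ∈ commutator Q ∧ v ^ p = 1}
      mul_mem' := by
        rintro a b ⟨ha, ha'⟩ ⟨hb, hb'⟩
        refine ⟨mul_mem ha hb, ?_⟩
        have hc : Commute a b := hab a ha b hb
        rw [hc.mul_pow, ha', hb', one_mul]
      one_mem' := ⟨one_mem _, one_pow _⟩
      inv_mem' := by
        rintro a ⟨ha, ha'⟩
        exact ⟨inv_mem ha, by rw [inv_pow, ha', inv_one]⟩ }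
  have hMn : M.Normal := by
    constructor
    rintro n ⟨hn, hn'⟩ g
    refine ⟨(inferInstance : (commutator Q).Normal).conj_mem n hn g, ?_⟩
    rw [conj_pow, hn', mul_one, mul_inv_cancel]
  have hM1 : M ≠ ⊥ := by
    obtain ⟨x, hx⟩ := exists_prime_orderOf_dvd_card' (G := commutator Q) p hpd
    intro h
    have hxM : (x : Q) ∈ M := by
      refine ⟨x.2, ?_⟩
      have h2 : x ^ p = 1 := by rw [← hx]; exact pow_orderOf_eq_one x
      exact congrArg Subtype.val h2
    rw [h, Subgroup.mem_bot] at hxM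
    have : x = 1 := Subtype.ext hxM
    rw [this, orderOf_one] at hx
    exact hp.one_lt.ne hx
  intro v hv
  exact (hmin M hMn hM1 hv).2

/-- Central case: `Q` is a `p`-group. -/
theorem isPGroup_of_center (h1 : commutator Q ≠ ⊥) {p : ℕ} (hp : p.Prime)
    (hexp : ∀ v ∈ commutator Q, v ^ p = 1)
    (hmin : ∀ M : Subgroup Q, M.Normal → M ≠ ⊥ → commutator Q ≤ M)
    (hZ : Subgroup.center Q ≠ ⊥) : IsPGroup p Q := by
  classical
  have := Fact.mk hp
  have hVZ : commutator Q ≤ Subgroup.center Q := hmin _ inferInstance hZ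
  have hnil : Group.IsNilpotent Q := by
    apply Group.of_quotient_center_nilpotent
    have hcomm : ∀ a b : Q ⧸ Subgroup.center Q, a * b = b * a := by
      intro a b
      obtain ⟨a, rfl⟩ := QuotientGroup.mk'_surjective _ a
      obtain ⟨b, rfl⟩ := QuotientGroup.mk'_surjective _ b
      rw [← map_mul, ← map_mul]
      refine (QuotientGroup.eq.2 (hVZ ?_))
      have h := Subgroup.commutator_mem_commutator (Subgroup.mem_top b⁻¹) (Subgroup.mem_top a⁻¹)
      rw [commutatorElement_def] at h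
      have : (a * b)⁻¹ * (b * a) = b⁻¹ * a⁻¹ * b⁻¹⁻¹ * a⁻¹⁻¹ := by group
      rw [this]
      exact h
    exact @CommGroup.isNilpotent _ { (inferInstance : Group (Q ⧸ Subgroup.center Q)) with
      mul_comm := hcomm }
  have hsyl : ∀ (q : ℕ) (_ : Fact q.Prime) (P : Sylow q Q), (P : Subgroup Q).Normal :=
    ((Group.isNilpotent_of_finite_tfae (G := Q)).out 0 3).1 hnil
  -- every prime divisor of `|Q|` is `p`
  have hprime : ∀ q : ℕ, q.Prime → q ∣ Nat.card Q → q = p := by
    intro q hq hqd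
    have := Fact.mk hq
    let P : Sylow q Q := default
    have hP1 : (P : Subgroup Q) ≠ ⊥ := P.ne_bot_of_dvd_card hqd
    have hle := hmin P (hsyl q ⟨hq⟩ P) hP1
    obtain ⟨⟨v, hv⟩, hv1⟩ := Subgroup.ne_bot_iff_exists_ne_one.1 h1
    have hv1' : v ≠ 1 := fun h => hv1 (Subtype.ext h)
    obtain ⟨k, hk⟩ := P.isPGroup' ⟨v, hle hv⟩
    have hk' : v ^ q ^ k = 1 := congrArg Subtype.val hk
    have h2 : orderOf v ∣ p := orderOf_dvd_of_pow_eq_one (hexp v hv)
    have h3 : orderOf v ∣ q ^ k := orderOf_dvd_of_pow_eq_one hk'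
    have h4 : orderOf v ≠ 1 := fun h => hv1' (orderOf_eq_one_iff.1 h)
    have h5 : orderOf v = p := (hp.eq_one_or_self_of_dvd _ h2).resolve_left h4
    rw [h5] at h3
    exact ((Nat.prime_dvd_prime_iff_eq hp hq).1 (hp.dvd_of_dvd_pow h3)).symm
  exact IsPGroup.of_card (Nat.eq_prime_pow_of_unique_prime_dvd Nat.card_pos.ne' fun {q} hq hqd =>
    hprime q hq hqd)

/-- Centreless case: the commutator subgroup contains the centralizers of its nonidentity
elements. -/
theorem fixedPointFree (hab : ∀ a ∈ commutator Q, ∀ b ∈ commutator Q, a * b = b * a)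
    (hmin : ∀ M : Subgroup Q, M.Normal → M ≠ ⊥ → commutator Q ≤ M)
    (h1 : commutator Q ≠ ⊥) (hZ : Subgroup.center Q = ⊥) :
    ∀ g, g ∉ commutator Q → ∀ v ∈ commutator Q, g * v = v * g → v = 1 := by
  classical
  set V := commutator Q with hV
  have hVn : V.Normal := inferInstance
  have hconj : ∀ x g : Q, ∃ w ∈ V, x * g * x⁻¹ = g * w := by
    intro x g
    refine ⟨g⁻¹ * (x * g * x⁻¹), ?_, by group⟩
    have h := Subgroup.commutator_mem_commutator (Subgroup.mem_top g⁻¹) (Subgroup.mem_top x)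
    rw [commutatorElement_def] at h
    have : g⁻¹ * (x * g * x⁻¹) = g⁻¹ * x * g⁻¹⁻¹ * x⁻¹ := by group
    rw [this]
    exact h
  -- the fixed points of `g` in a normal subgroup centralizing `V` form a normal subgroup
  have hnorm : ∀ (C : Subgroup Q), C.Normal → (∀ c ∈ C, ∀ v ∈ V, c * v = v * c) → ∀ g : Q,
      (C ⊓ Subgroup.centralizer {g}).Normal := by
    intro C hC hCV g
    constructor
    rintro c ⟨hc, hcg⟩ x
    have hcg' : c * g = g * c := (Subgroup.mem_centralizer_singleton_iff.1 hcg)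
    refine ⟨hC.conj_mem c hc x, Subgroup.mem_centralizer_singleton_iff.2 ?_⟩
    obtain ⟨w, hw, hwx⟩ := hconj x g
    have h2 : (x * c * x⁻¹) * (x * g * x⁻¹) = (x * g * x⁻¹) * (x * c * x⁻¹) := by
      have : x * (c * g) * x⁻¹ = x * (g * c) * x⁻¹ := by rw [hcg']
      simpa [mul_assoc] using this
    rw [hwx] at h2
    have h3 : (x * c * x⁻¹) * w = w * (x * c * x⁻¹) := hCV _ (hC.conj_mem c hc x) w hw
    have h4 : (x * c * x⁻¹) * g * w = g * (x * c * x⁻¹) * w := by
      calc (x * c * x⁻¹) * g * w = (x * c * x⁻¹) * (g * w) := by rw [mul_assoc]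
        _ = g * w * (x * c * x⁻¹) := h2
        _ = g * (w * (x * c * x⁻¹)) := by rw [mul_assoc]
        _ = g * ((x * c * x⁻¹) * w) := by rw [h3]
        _ = g * (x * c * x⁻¹) * w := (mul_assoc _ _ _).symm
    exact mul_right_cancel h4
  set C := Subgroup.centralizer (V : Set Q) with hCdef
  have hCn : C.Normal := Subgroup.normal_centralizer
  have hCV : ∀ c ∈ C, ∀ v ∈ V, c * v = v * c := by
    intro c hc v hv
    exact (Subgroup.mem_centralizer_iff.1 hc v hv).symm
  have hVC : V ≤ C := by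
    intro a ha
    rw [Subgroup.mem_centralizer_iff]
    intro b hb
    exact hab b hb a ha
  -- an element outside `C` has no fixed points in `V`
  have hfix : ∀ g, g ∉ C → ∀ v ∈ V, g * v = v * g → v = 1 := by
    intro g hg v hv hgv
    have hn := hnorm V hVn hab g
    by_contra hv1
    have hne : V ⊓ Subgroup.centralizer {g} ≠ ⊥ := by
      intro h
      have : v ∈ V ⊓ Subgroup.centralizer {g} :=
        ⟨hv, Subgroup.mem_centralizer_singleton_iff.2 hgv.symm⟩
      rw [h, Subgroup.mem_bot] at this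
      exact hv1 this
    have hle := hmin _ hn hne
    apply hg
    rw [Subgroup.mem_centralizer_iff]
    intro w hw
    exact Subgroup.mem_centralizer_singleton_iff.1 (hle hw).2
  -- there is an element outside `C`
  obtain ⟨g0, hg0⟩ : ∃ g0, g0 ∉ C := by
    by_contra hcon
    push Not at hcon
    apply h1
    rw [eq_bot_iff, ← hZ]
    intro v hv
    rw [Subgroup.mem_center_iff]
    intro g
    exact hCV g (hcon g) v hv
  -- `C = V`
  have hCleV : C ≤ V := by
    intro c hc
    have hinj : Function.Injective (fun v : V =>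
        (⟨v * g0 * (v : Q)⁻¹ * g0⁻¹, by
          have := V.mul_mem v.2 (hVn.conj_mem _ (V.inv_mem v.2) g0)
          simpa [mul_assoc] using this⟩ : V)) := by
      intro v w hvw
      have h2 : (v : Q) * g0 * (v : Q)⁻¹ * g0⁻¹ = w * g0 * (w : Q)⁻¹ * g0⁻¹ :=
        congrArg Subtype.val hvw
      have h3 : (v : Q) * g0 * (v : Q)⁻¹ = w * g0 * (w : Q)⁻¹ := mul_right_cancel h2
      have h4 : g0 * ((w : Q)⁻¹ * v) = ((w : Q)⁻¹ * v) * g0 := by
        have h5 : (w : Q)⁻¹ * ((v : Q) * g0 * (v : Q)⁻¹) * v = (w : Q)⁻¹ * (w * g0 * (w : Q)⁻¹) * v := by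
          rw [h3]
        have h6 : (w : Q)⁻¹ * ((v : Q) * g0 * (v : Q)⁻¹) * v = (w : Q)⁻¹ * v * g0 := by group
        have h7 : (w : Q)⁻¹ * (w * g0 * (w : Q)⁻¹) * v = g0 * ((w : Q)⁻¹ * v) := by group
        rw [h6, h7] at h5
        exact h5.symm
      have h8 := hfix g0 hg0 _ (V.mul_mem (V.inv_mem w.2) v.2) h4
      exact Subtype.ext (inv_mul_eq_one.1 h8).symm
    have hsurj := Finite.surjective_of_injective hinj
    have hcV : c * g0 * c⁻¹ * g0⁻¹ ∈ V := by
      have := Subgroup.commutator_mem_commutator (Subgroup.mem_top c) (Subgroup.mem_top g0)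
      rw [commutatorElement_def] at this
      exact this
    obtain ⟨v, hv⟩ := hsurj ⟨c * g0 * c⁻¹ * g0⁻¹, hcV⟩
    have h2 : (v : Q) * g0 * (v : Q)⁻¹ * g0⁻¹ = c * g0 * c⁻¹ * g0⁻¹ := congrArg Subtype.val hv
    have h3 : (v : Q) * g0 * (v : Q)⁻¹ = c * g0 * c⁻¹ := mul_right_cancel h2
    have h4 : ((v : Q)⁻¹ * c) * g0 = g0 * ((v : Q)⁻¹ * c) := by
      have h5 : (v : Q)⁻¹ * ((v : Q) * g0 * (v : Q)⁻¹) * c = (v : Q)⁻¹ * (c * g0 * c⁻¹) * c := by
        rw [h3]
      have h6 : (v : Q)⁻¹ * ((v : Q) * g0 * (v : Q)⁻¹) * c = g0 * ((v : Q)⁻¹ * c) := by group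
      have h7 : (v : Q)⁻¹ * (c * g0 * c⁻¹) * c = (v : Q)⁻¹ * c * g0 := by group
      rw [h6, h7] at h5
      exact h5.symm
    have hD := hnorm C hCn hCV g0
    have hmem : (v : Q)⁻¹ * c ∈ C ⊓ Subgroup.centralizer {g0} :=
      ⟨C.mul_mem (C.inv_mem (hVC v.2)) hc, Subgroup.mem_centralizer_singleton_iff.2 h4⟩
    have hD1 : C ⊓ Subgroup.centralizer {g0} = ⊥ := by
      by_contra hne
      have hle := hmin _ hD hne
      apply hg0
      rw [Subgroup.mem_centralizer_iff]
      intro w hw
      exact Subgroup.mem_centralizer_singleton_iff.1 (hle hw).2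
    rw [hD1, Subgroup.mem_bot] at hmem
    rw [← inv_mul_eq_one.1 hmem]
    exact v.2
  intro g hg v hv hgv
  exact hfix g (fun h => hg (hCleV h)) v hv hgv

end Cfsg.Agent.H681.MinNonab
end

-- part: H681/DegStruct
section
/-!
# A dichotomy for character degrees of finite solvable groups (Isaacs, 12.3 and 12.4)

`exists_prime_degree`: for a finite solvable nonabelian group `G` there are a prime `p` and an
integer `f > 1` such that every character degree `n` of `G` has a divisor `d` with `n ∣ f d` and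
either `p ∣ d` or `f d` is a character degree of `G`.
-/

set_option autoImplicit false

namespace Cfsg.Agent.H681.DegStruct

open Cfsg Cfsg.Agent.Characters.Core Cfsg.Agent.H681.DegBasic

/-- The dichotomy, relative to a quotient which is minimal nonabelian: two cases. -/
theorem cases {G : Type*} [Group G] [Finite G] [Group.IsSolvable G] (hG : commutator G ≠ ⊥) :
    ∃ (p : ℕ) (f : ℕ), p.Prime ∧ 1 < f ∧
      (((∃ b, f = p ^ b) ∧ ∀ n ∈ charDegrees G, p ∣ n ∨ f * n ∈ charDegrees G) ∨
        (f.Coprime p ∧ ∀ n ∈ charDegrees G, ∃ d, d ∣ n ∧ n / d ∣ f ∧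
          (p ∣ d ∨ f * d ∈ charDegrees G))) := by
  classical
  have := Fintype.ofFinite G
  obtain ⟨K, hKn, h1, hmin⟩ := MinNonab.exists_quotient hG
  have hab := MinNonab.comm_of_mem h1 hmin
  obtain ⟨p, hp, hexp⟩ := MinNonab.exists_prime h1 hab hmin
  have hpf := Fact.mk hp
  have hπ := QuotientGroup.mk'_surjective K
  by_cases hZ : Subgroup.center (G ⧸ K) = ⊥
  · -- Frobenius case
    have hfpf := MinNonab.fixedPointFree hab hmin h1 hZ
    have hidx : 1 < (commutator (G ⧸ K)).index := by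
      have h0 : (commutator (G ⧸ K)).index ≠ 0 := Subgroup.index_ne_zero_of_finite
      have h2 : (commutator (G ⧸ K)).index ≠ 1 := by
        intro h
        rw [Subgroup.index_eq_one] at h
        apply h1
        rw [eq_bot_iff, ← hZ]
        intro v hv
        rw [Subgroup.mem_center_iff]
        intro g
        exact hab g (h ▸ Subgroup.mem_top g) v hv
      omega
    -- `f` is coprime to `p`
    have hcop : (commutator (G ⧸ K)).index.Coprime p := by
      rw [Nat.coprime_comm, hp.coprime_iff_not_dvd]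
      intro hdvd
      -- a `p`-element outside `V` acts with fixed points on `V`
      have hVp : IsPGroup p (commutator (G ⧸ K)) := by
        intro v
        exact ⟨1, Subtype.ext (by simpa using hexp v v.2)⟩
      obtain ⟨P, hP⟩ := hVp.exists_le_sylow
      -- `P ≠ V`
      have hne : ∃ x ∈ (P : Subgroup (G ⧸ K)), x ∉ commutator (G ⧸ K) := by
        by_contra hcon
        push Not at hcon
        have heq : (P : Subgroup (G ⧸ K)) = commutator (G ⧸ K) := le_antisymm hcon hP
        apply P.not_dvd_index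
        rw [heq]
        exact hdvd
      obtain ⟨x, hxP, hxV⟩ := hne
      -- `Z(P) ∩ V ≠ 1`
      have hPp : IsPGroup p (P : Subgroup (G ⧸ K)) := P.isPGroup'
      let V' : Subgroup (P : Subgroup (G ⧸ K)) := (commutator (G ⧸ K)).subgroupOf P
      have hV'n : V'.Normal := inferInstance
      have hV'1 : V' ≠ ⊥ := by
        intro h
        apply h1
        rw [eq_bot_iff]
        intro v hv
        have : (⟨v, hP hv⟩ : (P : Subgroup (G ⧸ K))) ∈ V' := Subgroup.mem_subgroupOf.2 hv
        rw [h, Subgroup.mem_bot] at this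
        exact Subgroup.mem_bot.2 (congrArg Subtype.val this)
      obtain ⟨z, hz1, hz2, hz⟩ :=
        Cfsg.Agent.Transfer.PGroupNormal.exists_mem_inf_center_orderOf hPp V' hV'1
      have hz3 : (z : G ⧸ K) ∈ commutator (G ⧸ K) := Subgroup.mem_subgroupOf.1 hz1
      have hz4 := Subgroup.mem_center_iff.1 hz2 ⟨x, hxP⟩
      have hz5 : x * (z : G ⧸ K) = z * x := congrArg Subtype.val hz4
      have hz6 := hfpf x hxV z hz3 hz5
      have hz7 : z = 1 := Subtype.ext hz6
      rw [hz7, orderOf_one] at hz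
      exact hp.one_lt.ne hz
    refine ⟨p, (commutator (G ⧸ K)).index, hp, hidx, Or.inr ⟨hcop, ?_⟩⟩
    intro n hn
    obtain ⟨χ, hχ, hχn⟩ := mem_charDegrees.1 hn
    set N : Subgroup G := (commutator (G ⧸ K)).comap (QuotientGroup.mk' K) with hN
    have hNn : N.Normal := (inferInstance : (commutator (G ⧸ K)).Normal).comap _
    have := Fintype.ofFinite N
    obtain ⟨ψ, d, hψ, hψd, -, hd1, hd2⟩ := exists_constituent N hχ hχn
    have hNi : N.index = (commutator (G ⧸ K)).index := by
      rw [hN]; exact Subgroup.index_comap_of_surjective _ hπ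
    rw [hNi] at hd2
    refine ⟨d, hd1, hd2, ?_⟩
    by_cases hpd : p ∣ d
    · exact Or.inl hpd
    · right
      refine FrobDeg.index_mul_mem (commutator (G ⧸ K)) (QuotientGroup.mk' K) hπ hab hfpf h1
        (p := p) (m := 1) (by simpa using hexp) N hN hψ hψd
        (((Nat.Prime.coprime_iff_not_dvd hp).2 hpd).symm)
  · -- the `p`-group case
    have hPG : IsPGroup p (G ⧸ K) := MinNonab.isPGroup_of_center h1 hp hexp hmin hZ
    obtain ⟨a, ha⟩ := IsPGroup.iff_card.1 hPG
    -- a nonlinear irreducible character of the quotient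
    obtain ⟨f, hf, hf1⟩ : ∃ f ∈ charDegrees (G ⧸ K), f ≠ 1 := by
      by_contra hcon
      push Not at hcon
      apply h1
      have hall : ∀ χ : IrrCharacter (G ⧸ K), (χ : G ⧸ K → ℂ) 1 = 1 := by
        intro χ
        obtain ⟨m, hm, hm'⟩ := isIrr_apply_one χ.2
        have := hcon m (mem_charDegrees.2 ⟨χ, χ.2, hm'⟩)
        rw [hm', this, Nat.cast_one]
      have hc := S0187.result.2 hall
      rw [commutator_eq_bot_iff_center_eq_top, Subgroup.eq_top_iff']
      intro x
      rw [Subgroup.mem_center_iff]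
      intro y
      exact hc y x
    have hfp : ∃ b, f = p ^ b := by
      have h2 := dvd_card hf
      rw [ha] at h2
      obtain ⟨b, -, hb⟩ := (Nat.dvd_prime_pow hp).1 h2
      exact ⟨b, hb⟩
    have hfpos := pos_of_mem hf
    refine ⟨p, f, hp, by omega, Or.inl ⟨hfp, ?_⟩⟩
    intro n hn
    by_cases hpn : p ∣ n
    · exact Or.inl hpn
    · right
      obtain ⟨χ, hχ, hχn⟩ := mem_charDegrees.1 hn
      have := Fintype.ofFinite K
      obtain ⟨ψ, d, hψ, hψd, hne, hd1, hd2⟩ := exists_constituent K hχ hχn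
      have hidx : K.index = p ^ a := ha
      rw [hidx] at hd2
      have hnd : n / d = 1 := by
        have h2 : n / d ∣ n := Nat.div_dvd_of_dvd hd1
        have h3 : (n / d).Coprime (p ^ a) := by
          refine Nat.Coprime.pow_right a ?_
          rw [Nat.coprime_comm, hp.coprime_iff_not_dvd]
          exact fun h => hpn (h.trans h2)
        exact Nat.eq_one_of_dvd_coprimes h3 dvd_rfl hd2
      have hdn : d = n := by
        have := Nat.div_mul_cancel hd1
        rw [hnd, one_mul] at this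
        exact this
      have hres := restrict_eq_of_degree K (isIrr_isCharacter hχ) hψ hne (by
        rw [hχn, hψd, hdn])
      refine gallagher (QuotientGroup.mk' K) hπ K (fun k hk => ?_) hχ (by rw [hres]; exact hψ)
        hχn hf
      exact (QuotientGroup.eq_one_iff k).2 hk

/-- **The dichotomy**, uniform version. -/
theorem exists_prime_degree {G : Type*} [Group G] [Finite G] [Group.IsSolvable G]
    (hG : commutator G ≠ ⊥) :
    ∃ (p : ℕ) (f : ℕ), p.Prime ∧ 1 < f ∧ ∀ n ∈ charDegrees G, ∃ d, d ∣ n ∧ n ∣ f * d ∧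
      (p ∣ d ∨ f * d ∈ charDegrees G) := by
  obtain ⟨p, f, hp, hf, h⟩ := cases hG
  refine ⟨p, f, hp, hf, fun n hn => ?_⟩
  rcases h with ⟨-, h⟩ | ⟨-, h⟩
  · exact ⟨n, dvd_rfl, Dvd.intro_left f rfl, h n hn⟩
  · obtain ⟨d, hd1, hd2, hd3⟩ := h n hn
    refine ⟨d, hd1, ?_, hd3⟩
    have := Nat.mul_dvd_mul_right hd2 d
    rwa [Nat.div_mul_cancel hd1] at this

end Cfsg.Agent.H681.DegStruct
end
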