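import Mathlib
import Cfsg.Agent.H570.AltBad
import Cfsg.Agent.H799.PiBS.Suz
import Cfsg.Agent.BpSpor.SuzThreeCentral
import Cfsg.Agent.CTwoTab.Suz
import Cfsg.Agent.Cit.ElevenFact
import Cfsg.Agent.FastGrp
import Cfsg.Agent.Prune
set_option linter.all false
prune_inst 0x7f00000000000000000000000000000000000000000000000000000000000000000000000000000000000000000000000000000000000000000000000000000000000000000000000000000000000000003fffffffffffffffffffffffffffbeffbdffffffff
open scoped Cfsg.Agent.FastGrp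

/-!
# No bad elements of order `3` in the Suzuki sporadic group (helper681, for S3877)

A bad element is conjugate to an element `E v` of `A0 = 3^5` (its image in `N(A0) / A0 ≅ M₁₁` is trivial).
`v` is a combination of two special vectors; `N(A0)` contains a `2`-group of order at least `8` acting on both by signs,
so that `E v` commutes with an element of order `2`.
-/

set_option autoImplicit false
set_option maxRecDepth 100000

namespace Cfsg.Agent.H681.NoBadSuz

open Subgroup Cfsg Cfsg.Spor Cfsg.Agent.H470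
open Cfsg.Agent.SporadicRecognition.SuzOrder
  Cfsg.Agent.SuzThree.Basic Cfsg.Agent.SuzThree.Elts
  Cfsg.Agent.SuzThree.Elementary Cfsg.Agent.SuzThree.NormElts Cfsg.Agent.SuzThree.NormAct
  Cfsg.Agent.BpSpor.SuzThreeCentral

/-- the centralizers of the elements of `A0` have even order -/
theorem even_A0 {a : Suz} (ha : a ∈ A0) : 2 ∣ Nat.card ↥(centralizer ({a} : Set Suz)) := by
  classical
  have hfin := finSuz
  have hF : Fact (Nat.Prime 2) := ⟨Nat.prime_two⟩
  obtain ⟨v, rfl⟩ := mem_A0.1 ha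
  obtain ⟨f, g, hfg, s, t, hv⟩ := decomp v
  have hD : 2 ^ 3 ∣ Nat.card (D f g) := by
    have h1 := (D f g).card_mul_index
    rw [D_index hfg, card_NA] at h1
    have h2 : Nat.card (D f g) = 243 * 72 := by omega
    rw [h2]
    norm_num
  obtain ⟨P⟩ : Nonempty (Sylow 2 ↥(D f g)) := inferInstance
  have hP : 2 ^ 3 ∣ Nat.card (P : Subgroup ↥(D f g)) := P.pow_dvd_card_of_pow_dvd_card hD
  have hP8 : 8 ≤ Nat.card (P : Subgroup ↥(D f g)) := Nat.le_of_dvd Nat.card_pos (by simpa using hP)
  have hsp : ∀ n : ↥(P : Subgroup ↥(D f g)), Sp (((n : ↥(D f g)) : ↥NA) : Suz) f f ∧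
      Sp (((n : ↥(D f g)) : ↥NA) : Suz) g g := by
    intro n
    have hn' := mem_D.1 (n : ↥(D f g)).2
    have h1 := smul_spec ((n : ↥(D f g)) : ↥NA) f
    have h2 := smul_spec ((n : ↥(D f g)) : ↥NA) g
    rw [hn'.1] at h1
    rw [hn'.2] at h2
    exact ⟨h1, h2⟩
  -- the signs
  let σ : ↥(P : Subgroup ↥(D f g)) → Bool × Bool := fun n =>
    (decide ((((n : ↥(D f g)) : ↥NA) : Suz) * x f * (((n : ↥(D f g)) : ↥NA) : Suz)⁻¹ = x f),
      decide ((((n : ↥(D f g)) : ↥NA) : Suz) * x g * (((n : ↥(D f g)) : ↥NA) : Suz)⁻¹ = x g))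
  have hni : ¬ Function.Injective σ := by
    intro h
    have h1 := Nat.card_le_card_of_injective σ h
    rw [Nat.card_eq_fintype_card (α := Bool × Bool), Fintype.card_prod, Fintype.card_bool] at h1
    omega
  rw [Function.not_injective_iff] at hni
  obtain ⟨n, m, hnm, hne⟩ := hni
  have key : ∀ (i : Ix) (a b : Suz), Sp a i i → Sp b i i →
      decide (a * x i * a⁻¹ = x i) = decide (b * x i * b⁻¹ = x i) → (b⁻¹ * a) * x i = x i * (b⁻¹ * a) := by
    intro i a b h1 h2 h3
    have h4 : a * x i * a⁻¹ = b * x i * b⁻¹ := by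
      by_cases h5 : a * x i * a⁻¹ = x i
      · rw [decide_eq_true h5] at h3
        rw [h5, of_decide_eq_true h3.symm]
      · have h6 : ¬ b * x i * b⁻¹ = x i := by
          intro h6
          rw [decide_eq_true h6] at h3
          exact h5 (of_decide_eq_true h3)
        rcases h1 with h1 | h1
        · exact absurd h1 h5
        · rcases h2 with h2 | h2
          · exact absurd h2 h6
          · rw [h1, h2]
    calc b⁻¹ * a * x i = b⁻¹ * (a * x i * a⁻¹) * a := by group
      _ = x i * (b⁻¹ * a) := by rw [h4]; group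
  set w : Suz := ((((m⁻¹ * n : ↥(P : Subgroup ↥(D f g))) : ↥(D f g)) : ↥NA) : Suz) with hw
  have hw' : w = ((((m : ↥(D f g)) : ↥NA) : Suz))⁻¹ * (((n : ↥(D f g)) : ↥NA) : Suz) := rfl
  have hwf : w * x f = x f * w := by
    rw [hw']
    exact key f _ _ (hsp n).1 (hsp m).1 (congrArg Prod.fst hnm)
  have hwg : w * x g = x g * w := by
    rw [hw']
    exact key g _ _ (hsp n).2 (hsp m).2 (congrArg Prod.snd hnm)
  have hwE : w ∈ centralizer ({E v} : Set Suz) := by
    rw [mem_centralizer_singleton_iff]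
    have h1 : E v ∈ centralizer ({w} : Set Suz) := by
      rw [hv, E_add]
      refine mul_mem (E_smul_mem ?_ s) (E_smul_mem ?_ t)
      · exact mem_centralizer_singleton_iff.2 hwf.symm
      · exact mem_centralizer_singleton_iff.2 hwg.symm
    exact (mem_centralizer_singleton_iff.1 h1).symm
  have hord : orderOf w = orderOf (m⁻¹ * n) := by
    rw [hw, Subgroup.orderOf_coe, Subgroup.orderOf_coe, Subgroup.orderOf_coe]
  obtain ⟨k, hk⟩ := (IsPGroup.iff_orderOf.1 P.2) (m⁻¹ * n)
  have hk0 : k ≠ 0 := by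
    rintro rfl
    rw [pow_zero, orderOf_eq_one_iff, inv_mul_eq_one] at hk
    exact hne hk.symm
  have h2 : 2 ∣ orderOf w := by
    rw [hord, hk]
    exact dvd_pow_self 2 hk0
  have h3 := orderOf_dvd_natCard (⟨w, hwE⟩ : ↥(centralizer ({E v} : Set Suz)))
  rw [Subgroup.orderOf_mk] at h3
  exact h2.trans h3

theorem noBad_model : NoBad 3 Suz := by
  intro x hx
  have hfin := finSuz
  have hb := Cfsg.Agent.CTwoTab.Suz.compC2.bal
  have hc := Cfsg.Agent.BpSpor.SuzThree.center_eq
  have hidx := Subgroup.card_mul_index NA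
  rw [card_NA, card_Suz] at hidx
  have hM : NA ≠ ⊤ := by
    intro h1
    have h2 := card_NA
    rw [h1, card_top, card_Suz] at h2
    norm_num at h2
  have hi : ¬ 3 ∣ NA.index := by
    intro h3
    obtain ⟨c, hc⟩ := h3
    rw [hc] at hidx
    omega
  obtain ⟨g, N, h1, h2, h3, h4⟩ := hx.exists_normal (by norm_num) hM hi
  have hx' := hx.conj g
  -- the quotient
  have hs : IsSimpleGroup (NA ⧸ A0.subgroupOf NA) := Cfsg.Agent.Cit.ElevenFact.simple isoM11
  have hcard : Nat.card (NA ⧸ A0.subgroupOf NA) = 7920 := by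
    obtain ⟨e⟩ := isoM11
    rw [Nat.card_congr e.toEquiv, HNType.Alt.card_M11]
  have hof : OddFree 3 (NA ⧸ A0.subgroupOf NA) := OddFree.of_simple (by norm_num) (by rw [hcard]; decide)
  have hgN : g * x * g⁻¹ ∈ NA := h1 h4
  have hNn : (N.subgroupOf NA).Normal := ⟨fun n hn m => by
    rw [mem_subgroupOf] at hn ⊢
    exact h2 m m.2 n hn⟩
  have hNc : Nat.card (N.subgroupOf NA) = Nat.card N := Nat.card_congr (Subgroup.subgroupOfEquivOfLe h1).toEquiv
  have hmem : g * x * g⁻¹ ∈ A0 := by
    have h5 := hof ((N.subgroupOf NA).map (QuotientGroup.mk' (A0.subgroupOf NA)))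
      (hNn.map _ (QuotientGroup.mk'_surjective _))
      ((show Odd (Nat.card (N.subgroupOf NA)) by rwa [hNc]).of_dvd_nat (Subgroup.card_map_dvd _ _))
      (QuotientGroup.mk' (A0.subgroupOf NA) ⟨g * x * g⁻¹, hgN⟩) (mem_map_of_mem _ (mem_subgroupOf.2 h4))
    have h6 : orderOf (QuotientGroup.mk' (A0.subgroupOf NA) ⟨g * x * g⁻¹, hgN⟩) ∣ 3 := by
      have h7 := orderOf_map_dvd (QuotientGroup.mk' (A0.subgroupOf NA)) ⟨g * x * g⁻¹, hgN⟩
      rwa [Subgroup.orderOf_mk, hx'.ord] at h7
    rcases (Nat.dvd_prime (by norm_num)).1 h6 with h7 | h7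
    · have h8 := (QuotientGroup.eq_one_iff _).1 (orderOf_eq_one_iff.1 h7)
      exact mem_subgroupOf.1 h8
    · exact absurd h7 h5
  have ho := hx'.odd_centralizer (by norm_num) hc hb
  exact (Nat.not_even_iff_odd.2 ho) (even_iff_two_dvd.2 (even_A0 hmem))

/-- **The Suzuki sporadic group.** -/
theorem noBad_Suz {K : Type*} [Group K] [Finite K] (h : Cfsg.Spor.IsoSuz K) : NoBad 3 K := by
  obtain ⟨e⟩ := h
  exact noBad_model.congr e.symm

end Cfsg.Agent.H681.NoBadSuz
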