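import Mathlib
import Cfsg.Agent.H701.ZerosCols
import Cfsg.Agent.H525.PslK
import Cfsg.Agent.ClassicalGeometry.PSLTorus
import Cfsg.Agent.ClassicalGeometry.PSL2Basic
import Cfsg.Agent.Walter.MetaPSL
import Cfsg.Agent.J3Type.CharTools
import Cfsg.Agent.FastGrp
import Cfsg.Agent.Prune
set_option linter.all false
prune_inst 0x7f00000000000000000000000000000000000000000000000000000000000000000000000000000000000000000000000000000000000000000000000000000000000000000000000000000000000000003fffffffffffffffffffffffffffbeffbdffffffff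
open scoped Cfsg.Agent.FastGrp

/-!
Zeros in the character table of `PSL(2, q)` (S4895, row PSL2).
-/

set_option autoImplicit false

namespace Cfsg.Agent.H681.ZerosPSL2

open Cfsg Cfsg.Agent.H504.Zeros Cfsg.Agent.H504.ZeroTI Cfsg.Agent.ClassicalGeometry.PSLTorus
open Cfsg.Agent.Characters.Core
open scoped MatrixGroups

section Gen

universe u

variable {G : Type u} [Group G]

/-- an element outside the cyclic subgroup of index two that commutes with `x` makes `x` central. -/
theorem central_of_index {C H : Subgroup G} (hC : ∀ a ∈ C, ∀ b ∈ C, a * b = b * a) (hCH : C ≤ H)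
    (hi : C.relIndex H = 2) {x y : G} (hx : x ∈ C) (hy : y ∈ H) (hyC : y ∉ C) (hxy : x * y = y * x) :
    ∀ z ∈ H, x * z = z * x := by
  intro z hz
  by_cases hzC : z ∈ C
  · exact hC x hx z hzC
  · have h1 : y⁻¹ * z ∈ C := by
      have h2 := Subgroup.mul_mem_iff_of_index_two (H := C.subgroupOf H) hi (a := ⟨y⁻¹, H.inv_mem hy⟩)
        (b := ⟨z, hz⟩)
      rw [Subgroup.mem_subgroupOf, Subgroup.mem_subgroupOf, Subgroup.mem_subgroupOf] at h2
      refine h2.2 (iff_of_false ?_ hzC)
      show y⁻¹ ∉ C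
      rwa [inv_mem_iff]
    have h3 := hC x hx _ h1
    have h4 : z = y * (y⁻¹ * z) := by group
    rw [h4, ← mul_assoc x y, hxy, mul_assoc y x, h3, mul_assoc y (y⁻¹ * z) x]

theorem cent_eq {C H : Subgroup G} (hC : ∀ a ∈ C, ∀ b ∈ C, a * b = b * a) (hCH : C ≤ H)
    (hi : C.relIndex H = 2) {n : ℕ} (e : H ≃* DihedralGroup n)
    (hTI : ∀ g, g ∉ H → ∀ x ∈ C, g⁻¹ * x * g ∈ C → x = 1) {x : G} (hx : x ∈ C) (hx1 : x ≠ 1)
    (hc : e ⟨x, hCH hx⟩ ∉ Subgroup.center (DihedralGroup n)) :
    Subgroup.centralizer ({x} : Set G) = C := by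
  apply le_antisymm
  · intro y hy
    have hxy : x * y = y * x := by
      rw [Subgroup.mem_centralizer_iff] at hy
      exact hy x rfl
    by_contra hyC
    by_cases hyH : y ∈ H
    · apply hc
      rw [Subgroup.mem_center_iff]
      intro g
      obtain ⟨z, rfl⟩ := e.surjective g
      rw [← map_mul, ← map_mul]
      congr 1
      apply Subtype.ext
      exact (central_of_index hC hCH hi hx hyH hyC hxy z z.2).symm
    · apply hx1
      refine hTI y hyH x hx ?_
      have : y⁻¹ * x * y = x := by rw [mul_assoc, hxy, inv_mul_cancel_left]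
      rw [this]
      exact hx
  · intro y hy
    rw [Subgroup.mem_centralizer_iff]
    intro z hz
    rw [Set.mem_singleton_iff] at hz
    rw [hz]
    exact hC x hx y hy

end Gen

variable {F : Type} [Field F] [Fintype F]

/-- the non-split torus, of odd order -/
theorem cc_nonsplit (h1 : (Fintype.card F + 1) / Nat.gcd 2 (Fintype.card F - 1) ≠ 1)
    (hodd : Odd ((Fintype.card F + 1) / Nat.gcd 2 (Fintype.card F - 1))) :
    ∃ C : Subgroup (Matrix.ProjectiveSpecialLinearGroup (Fin 2) F), CC C ∧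
      Nat.card C = (Fintype.card F + 1) / Nat.gcd 2 (Fintype.card F - 1) := by
  obtain ⟨C, H, hCH, hi, hcyc, hcard, ⟨e⟩, hTI⟩ := exists_psl_torus F
  have hC : ∀ a ∈ C, ∀ b ∈ C, a * b = b * a := by
    intro a ha b hb
    have : (⟨a, ha⟩ : C) * ⟨b, hb⟩ = ⟨b, hb⟩ * ⟨a, ha⟩ := mul_comm' _ _
    exact congrArg Subtype.val this
  refine ⟨C, ⟨hC, ?_⟩, hcard⟩
  intro x hx hx1
  refine cent_eq hC hCH hi e hTI hx hx1 ?_
  rw [DihedralGroup.center_eq_bot_of_odd_ne_one hodd h1, Subgroup.mem_bot, MulEquiv.map_eq_one_iff]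
  intro h
  exact hx1 (congrArg Subtype.val h)

section entries

open Cfsg.Agent.Walter.MetaPSL

omit [Fintype F] in
theorem d00 (a : Fˣ) : (diagHom F a : Matrix (Fin 2) (Fin 2) F) 0 0 = a := rfl
omit [Fintype F] in
theorem d01 (a : Fˣ) : (diagHom F a : Matrix (Fin 2) (Fin 2) F) 0 1 = 0 := rfl
omit [Fintype F] in
theorem d10 (a : Fˣ) : (diagHom F a : Matrix (Fin 2) (Fin 2) F) 1 0 = 0 := rfl
omit [Fintype F] in
theorem d11 (a : Fˣ) : (diagHom F a : Matrix (Fin 2) (Fin 2) F) 1 1 = ((a⁻¹ : Fˣ) : F) := rfl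

end entries

/-- the diagonal torus -/
noncomputable def dH (F : Type) [Field F] : Fˣ →* Matrix.ProjectiveSpecialLinearGroup (Fin 2) F :=
  (pr F).comp (Cfsg.Agent.Walter.MetaPSL.diagHom F)

omit [Fintype F] in
theorem dH_eq_one_iff (a : Fˣ) : dH F a = 1 ↔ a = 1 ∨ a = -1 := by
  show pr F (Cfsg.Agent.Walter.MetaPSL.diagHom F a) = 1 ↔ _
  rw [pr_eq_one_iff]
  constructor
  · rintro (h | h)
    · left
      have h4 := congrArg (fun g : Matrix.SpecialLinearGroup (Fin 2) F => (g : Matrix (Fin 2) (Fin 2) F) 0 0) h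
      apply Units.ext
      simpa [Cfsg.Agent.Walter.MetaPSL.diagHom_apply] using h4
    · right
      have h4 := congrArg (fun g : Matrix.SpecialLinearGroup (Fin 2) F => (g : Matrix (Fin 2) (Fin 2) F) 0 0) h
      apply Units.ext
      simpa [Cfsg.Agent.Walter.MetaPSL.diagHom_apply] using h4
  · rintro (rfl | rfl)
    · left
      exact map_one _
    · right
      apply Subtype.ext
      ext i j
      fin_cases i <;> fin_cases j
      · exact (d00 _).trans (by simp)
      · exact (d01 _).trans (by simp)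
      · exact (d10 _).trans (by simp)
      · exact (d11 _).trans (by simp)

theorem card_range_dH (h : (2 : F) ≠ 0) : 2 * Nat.card (dH F).range = Fintype.card F - 1 := by
  classical
  have h1 : Nat.card (dH F).ker = 2 := by
    have h2 : ((dH F).ker : Set Fˣ) = {1, -1} := by
      ext a
      exact dH_eq_one_iff a
    have h3 : Nat.card (dH F).ker = ((dH F).ker : Set Fˣ).ncard := rfl
    rw [h3, h2, Set.ncard_pair]
    intro h4
    apply h
    have h5 : (1 : F) = -1 := by
      have := congrArg Units.val h4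
      simpa using this
    linear_combination h5
  have h2 := Subgroup.card_eq_card_quotient_mul_card_subgroup (dH F).ker
  rw [Nat.card_congr (QuotientGroup.quotientKerEquivRange (dH F)).toEquiv, h1,
    Nat.card_eq_fintype_card (α := Fˣ), Fintype.card_units] at h2
  omega

/-- the split torus, of odd order -/
theorem cc_split (h4 : Fintype.card F % 4 = 3) : CC (dH F).range := by
  have h2 : (2 : F) ≠ 0 := (two_ne_zero_iff_odd F).2 (Nat.odd_iff.2 (by omega))
  have hsq : ¬ IsSquare (-1 : F) := by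
    rw [FiniteField.isSquare_neg_one_iff]
    omega
  have hcomm : ∀ a ∈ (dH F).range, ∀ b ∈ (dH F).range, a * b = b * a := by
    rintro _ ⟨a, rfl⟩ _ ⟨b, rfl⟩
    rw [← map_mul, ← map_mul, mul_comm]
  refine ⟨hcomm, ?_⟩
  rintro _ ⟨a, rfl⟩ ha1
  apply le_antisymm
  · intro y hy
    obtain ⟨B, rfl⟩ := pr_surjective F y
    have hxy : dH F a * pr F B = pr F B * dH F a := by
      rw [Subgroup.mem_centralizer_iff] at hy
      exact hy _ rfl
    have h5 : pr F (Cfsg.Agent.Walter.MetaPSL.diagHom F a * B) =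
        pr F (B * Cfsg.Agent.Walter.MetaPSL.diagHom F a) := by
      rw [map_mul, map_mul]
      exact hxy
    have ha0 : (a : F) ≠ 0 := a.ne_zero
    have hai : (a : F) * ((a⁻¹ : Fˣ) : F) = 1 := by simp
    have ha2 : (a : F) ≠ ((a⁻¹ : Fˣ) : F) := by
      intro h
      apply ha1
      rw [dH_eq_one_iff]
      have h6 : (a : F) * a = 1 := by
        conv_lhs =>
          arg 2
          rw [h]
        exact hai
      rcases mul_self_eq_one_iff.1 h6 with h7 | h7
      · left; exact Units.ext h7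
      · right; apply Units.ext; rw [h7]; simp
    rw [pr_eq_iff] at h5
    have ent : ∀ {X Y : SL(2, F)}, X = Y → ∀ i j, X i j = Y i j := fun h i j => by rw [h]
    have hdet := B.det_coe
    rw [Matrix.det_fin_two] at hdet
    have hL : ∀ i j, (Cfsg.Agent.Walter.MetaPSL.diagHom F a * B) i j =
        (Cfsg.Agent.Walter.MetaPSL.diagHom F a : Matrix (Fin 2) (Fin 2) F) i 0 * B 0 j +
        (Cfsg.Agent.Walter.MetaPSL.diagHom F a : Matrix (Fin 2) (Fin 2) F) i 1 * B 1 j := by
      intro i j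
      rw [Matrix.SpecialLinearGroup.coe_mul, Matrix.mul_apply, Fin.sum_univ_two]
    have hR : ∀ i j, (B * Cfsg.Agent.Walter.MetaPSL.diagHom F a) i j =
        B i 0 * (Cfsg.Agent.Walter.MetaPSL.diagHom F a : Matrix (Fin 2) (Fin 2) F) 0 j +
        B i 1 * (Cfsg.Agent.Walter.MetaPSL.diagHom F a : Matrix (Fin 2) (Fin 2) F) 1 j := by
      intro i j
      rw [Matrix.SpecialLinearGroup.coe_mul, Matrix.mul_apply, Fin.sum_univ_two]
    have hB : B 0 1 = 0 ∧ B 1 0 = 0 := by
      rcases h5 with h5 | h5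
      · have e01 := ent h5 0 1
        have e10 := ent h5 1 0
        rw [hL, hR, d00, d01, d11] at e01
        rw [hL, hR, d00, d10, d11] at e10
        constructor
        · have h8 : ((a : F) - ((a⁻¹ : Fˣ) : F)) * B 0 1 = 0 := by
            linear_combination e01
          exact (mul_eq_zero.1 h8).resolve_left (sub_ne_zero.2 ha2)
        · have h8 : ((a : F) - ((a⁻¹ : Fˣ) : F)) * B 1 0 = 0 := by
            linear_combination -e10
          exact (mul_eq_zero.1 h8).resolve_left (sub_ne_zero.2 ha2)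
      · exfalso
        have hn : ∀ i j, (-(B * Cfsg.Agent.Walter.MetaPSL.diagHom F a)) i j =
          -((B * Cfsg.Agent.Walter.MetaPSL.diagHom F a) i j) := fun i j => rfl
        have e00 := ent h5 0 0
        have e01 := ent h5 0 1
        rw [hL, hn, hR, d00, d01, d10] at e00
        rw [hL, hn, hR, d00, d01, d11] at e01
        have hB00 : B 0 0 = 0 := by
          have h8 : (2 * (a : F)) * B 0 0 = 0 := by linear_combination e00
          exact (mul_eq_zero.1 h8).resolve_left (mul_ne_zero h2 ha0)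
        have hB01 : B 0 1 ≠ 0 := by
          intro h9
          rw [hB00, h9] at hdet
          simp at hdet
        have h8 : ((a : F) + ((a⁻¹ : Fˣ) : F)) * B 0 1 = 0 := by linear_combination e01
        have h9 : (a : F) + ((a⁻¹ : Fˣ) : F) = 0 := (mul_eq_zero.1 h8).resolve_right hB01
        apply hsq
        refine ⟨a, ?_⟩
        linear_combination hai - (a : F) * h9
    have hdet' : B 0 0 * B 1 1 = 1 := by
      rw [hB.1] at hdet
      linear_combination hdet
    refine ⟨⟨B 0 0, B 1 1, hdet', by rw [mul_comm]; exact hdet'⟩, ?_⟩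
    show pr F _ = pr F B
    congr 1
    apply Subtype.ext
    ext i j
    fin_cases i <;> fin_cases j
    · exact d00 _
    · exact (d01 _).trans hB.1.symm
    · exact (d10 _).trans hB.2.symm
    · exact d11 _
  · intro y hy
    rw [Subgroup.mem_centralizer_iff]
    intro z hz
    rw [Set.mem_singleton_iff] at hz
    rw [hz]
    exact hcomm _ ⟨a, rfl⟩ y hy

/-- `q` even -/
theorem big_even (h : Even (Fintype.card F)) (h8 : 8 ≤ Fintype.card F) :
    Big (Matrix.ProjectiveSpecialLinearGroup (Fin 2) F) := by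
  have hg : Nat.gcd 2 (Fintype.card F - 1) = 1 := by
    rw [← Nat.coprime_iff_gcd_eq_one, Nat.coprime_two_left, Nat.odd_iff]
    rw [Nat.even_iff] at h
    omega
  obtain ⟨C, hC, hcard⟩ := cc_nonsplit (F := F) (by rw [hg, Nat.div_one]; omega)
    (by rw [hg, Nat.div_one]; exact h.add_one)
  rw [hg, Nat.div_one] at hcard
  have hG := Cfsg.Agent.ClassicalGeometry.PSL2Basic.card_PSL2_even (F := F) h
  have hk := Cfsg.Agent.H525.PslK.psl2_even h
  obtain ⟨m, hm⟩ := h
  generalize Fintype.card F = q at *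
  refine big_of_index hC hcard (n := q * (q - 1)) (e := 2) (m := m) (k := q + 1) ?_ ?_ (by omega)
    (by omega) (by omega) hk.ge ?_
  · rw [hG]
    obtain ⟨r, rfl⟩ : ∃ r, q = r + 1 := ⟨q - 1, by omega⟩
    have : (r + 1) ^ 2 - 1 = r * (r + 2) := by
      rw [Nat.sub_eq_iff_eq_add (Nat.one_le_pow _ _ (by omega))]
      ring
    rw [this, Nat.add_sub_cancel]
    ring
  · obtain ⟨r, rfl⟩ : ∃ r, q = r + 2 := ⟨q - 2, by omega⟩
    have : (r + 2) * (r + 2 - 1) = 2 + (r + 2 + 1) * r := by
      rw [show r + 2 - 1 = r + 1 by omega]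
      ring
    rw [this, Nat.add_mul_mod_self_left, Nat.mod_eq_of_lt (by omega)]
  · obtain ⟨r, rfl⟩ : ∃ r, m = r + 4 := ⟨m - 4, by omega⟩
    rw [show q + 1 - (2 + (r + 4)) = r + 3 by omega, show r + 4 - 1 = r + 3 by omega]
    nlinarith

/-- `q ≡ 1 mod 4` -/
theorem big_one (h : Fintype.card F % 4 = 1) (h13 : 13 ≤ Fintype.card F) :
    Big (Matrix.ProjectiveSpecialLinearGroup (Fin 2) F) := by
  have hodd : Odd (Fintype.card F) := Nat.odd_iff.2 (by omega)
  have hg : Nat.gcd 2 (Fintype.card F - 1) = 2 := by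
    apply Nat.gcd_eq_left
    omega
  obtain ⟨C, hC, hcard⟩ := cc_nonsplit (F := F) (by rw [hg]; omega)
    (by rw [hg, Nat.odd_iff]; omega)
  rw [hg] at hcard
  have hG := Cfsg.Agent.ClassicalGeometry.PSL2Basic.card_PSL2_odd (F := F) hodd
  have hk := Cfsg.Agent.H525.PslK.psl2_odd hodd
  obtain ⟨m, hm⟩ : ∃ m, Fintype.card F = 4 * m + 1 := ⟨Fintype.card F / 4, by omega⟩
  rw [hm] at hcard hG hk h13
  rw [show (4 * m + 1 + 1) / 2 = 2 * m + 1 by omega] at hcard
  refine big_of_index hC hcard (n := (4 * m + 1) * (4 * m)) (e := 2) (m := m) (k := 2 * m + 3) ?_ ?_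
    (by omega) (by omega) (by omega) (by omega) ?_
  · have : (4 * m + 1) ^ 2 - 1 = 4 * m * (4 * m + 2) := by
      rw [Nat.sub_eq_iff_eq_add (Nat.one_le_pow _ _ (by omega))]
      ring
    rw [this] at hG
    have h2 : 2 * Nat.card (Matrix.ProjectiveSpecialLinearGroup (Fin 2) F) =
        2 * ((2 * m + 1) * ((4 * m + 1) * (4 * m))) := by rw [mul_comm, hG]; ring
    omega
  · obtain ⟨r, rfl⟩ : ∃ r, m = r + 1 := ⟨m - 1, by omega⟩
    have : (4 * (r + 1) + 1) * (4 * (r + 1)) = 2 + (2 * (r + 1) + 1) * (8 * r + 6) := by ring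
    rw [this, Nat.add_mul_mod_self_left, Nat.mod_eq_of_lt (by omega)]
  · obtain ⟨r, rfl⟩ : ∃ r, m = r + 3 := ⟨m - 3, by omega⟩
    rw [show 2 * (r + 3) + 3 - (2 + (r + 3)) = r + 4 by omega, show r + 3 - 1 = r + 2 by omega]
    nlinarith

/-- `q ≡ 3 mod 4` -/
theorem big_three (h : Fintype.card F % 4 = 3) (h19 : 19 ≤ Fintype.card F) :
    Big (Matrix.ProjectiveSpecialLinearGroup (Fin 2) F) := by
  have hodd : Odd (Fintype.card F) := Nat.odd_iff.2 (by omega)
  have hC := cc_split (F := F) h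
  have hcard := card_range_dH (F := F) ((two_ne_zero_iff_odd F).2 hodd)
  have hG := Cfsg.Agent.ClassicalGeometry.PSL2Basic.card_PSL2_odd (F := F) hodd
  have hk := Cfsg.Agent.H525.PslK.psl2_odd hodd
  obtain ⟨m, hm⟩ : ∃ m, Fintype.card F = 4 * m + 3 := ⟨Fintype.card F / 4, by omega⟩
  rw [hm] at hcard hG hk h19
  refine big_of_index hC (a := 2 * m + 1) (by omega) (n := (4 * m + 3) * (4 * m + 4)) (e := 2) (m := m)
    (k := 2 * m + 4) ?_ ?_ (by omega) (by omega) (by omega) (by omega) ?_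
  · have : (4 * m + 3) ^ 2 - 1 = (4 * m + 4) * (4 * m + 2) := by
      rw [Nat.sub_eq_iff_eq_add (Nat.one_le_pow _ _ (by omega))]
      ring
    rw [this] at hG
    have h2 : 2 * Nat.card (Matrix.ProjectiveSpecialLinearGroup (Fin 2) F) =
        2 * ((2 * m + 1) * ((4 * m + 3) * (4 * m + 4))) := by rw [mul_comm, hG]; ring
    omega
  · have : (4 * m + 3) * (4 * m + 4) = 2 + (2 * m + 1) * (8 * m + 10) := by ring
    rw [this, Nat.add_mul_mod_self_left, Nat.mod_eq_of_lt (by omega)]
  · obtain ⟨r, rfl⟩ : ∃ r, m = r + 4 := ⟨m - 4, by omega⟩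
    rw [show 2 * (r + 4) + 4 - (2 + (r + 4)) = r + 6 by omega, show r + 4 - 1 = r + 3 by omega]
    nlinarith

end Cfsg.Agent.H681.ZerosPSL2
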