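import Mathlib
import Cfsg.Agent.H701.ZerosCols
import Cfsg.Agent.H930.PrmB_m3
import Cfsg.Agent.H93.Classical
import Cfsg.Agent.HKS.EndOrd
import Cfsg.Agent.S0819
import Cfsg.Agent.ClassicalGeometry.NonsplitTorus
import Cfsg.Agent.H681.ZerosPSL2
import Cfsg.Agent.Prune
set_option linter.all false
prune_inst 0x7f00000000000000000000000000000000000000000000000000000000000000000000000000000000000000000000000000000000000000000000000000000000000000000000000000000000000000003fffffffffffffffffffffffffffbeffbdffffffff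
open scoped Cfsg.Agent.FastGrp

/-!
Zeros in the character table of `PSL(3, q)`, `q ≥ 3` (S4895, row PSL3).
-/

set_option autoImplicit false

namespace Cfsg.Agent.H681.ZerosPSL3

open Cfsg Cfsg.Agent.H504 Cfsg.Agent.H504.Zeros
open Cfsg.Agent.Characters.Core Cfsg.Geo Cfsg.Agent.H926.Cc Module
open scoped MatrixGroups

/-- the two notions -/
theorem cc_of_cc {G : Type*} [Group G] {C : Subgroup G} (h : Cfsg.Agent.H926.Cc.CC C) : ZeroTI.CC C := by
  refine ⟨h.comm, fun a ha ha1 => le_antisymm ?_ ?_⟩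
  · intro y hy
    rw [Subgroup.mem_centralizer_iff] at hy
    exact h.cent a ha ha1 y (hy a rfl).symm
  · intro y hy
    rw [Subgroup.mem_centralizer_iff]
    intro z hz
    rw [Set.mem_singleton_iff] at hz
    rw [hz]
    exact h.comm a ha y hy

theorem cc_map {G H : Type*} [Group G] [Group H] (e : G ≃* H) {C : Subgroup G} (h : ZeroTI.CC C) :
    ZeroTI.CC (C.map e.toMonoidHom) := by
  constructor
  · rintro _ ⟨a, ha, rfl⟩ _ ⟨b, hb, rfl⟩
    rw [← map_mul, h.comm a ha b hb, map_mul]
  · rintro _ ⟨a, ha, rfl⟩ ha1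
    have ha1' : a ≠ 1 := by
      rintro rfl
      exact ha1 (map_one _)
    ext y
    obtain ⟨y, rfl⟩ := e.surjective y
    rw [Subgroup.mem_centralizer_iff]
    have h1 : e y ∈ C.map e.toMonoidHom ↔ y ∈ C := Subgroup.mem_map_equiv.trans (by simp)
    rw [h1, ← h.cent a ha ha1', Subgroup.mem_centralizer_iff]
    constructor
    · intro h2 z hz
      rw [Set.mem_singleton_iff] at hz
      rw [hz]
      apply e.injective
      rw [map_mul, map_mul]
      exact h2 _ rfl
    · intro h2 z hz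
      rw [Set.mem_singleton_iff] at hz
      rw [hz]
      show e a * e y = e y * e a
      rw [← map_mul, h2 a rfl, map_mul]

section torus

variable (F : Type) [Field F]

/-- the special linear group inside `GL` -/
def slE : specialLinear (Fin 3) F ≃* Matrix.SpecialLinearGroup (Fin 3) F where
  toFun g := ⟨((g : GL (Fin 3) F) : Matrix (Fin 3) (Fin 3) F),
    (Cfsg.Agent.H873.mem_specialLinear_iff _).1 g.2⟩
  invFun A := ⟨(A : GL (Fin 3) F), (Cfsg.Agent.H873.mem_specialLinear_iff _).2 A.2⟩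
  left_inv _ := Subtype.ext (Units.ext rfl)
  right_inv _ := Subtype.ext rfl
  map_mul' _ _ := Subtype.ext rfl

theorem slE_map : (Zs (specialLinear (Fin 3) F)).map (slE F).toMonoidHom =
    Subgroup.center (Matrix.SpecialLinearGroup (Fin 3) F) := by
  ext A
  rw [Matrix.SpecialLinearGroup.mem_center_iff]
  constructor
  · rintro ⟨g, hg, rfl⟩
    obtain ⟨c, hc⟩ := mem_Zs.1 hg
    have h1 : ((slE F g : Matrix.SpecialLinearGroup (Fin 3) F) : Matrix (Fin 3) (Fin 3) F) =
        (c : F) • (1 : Matrix (Fin 3) (Fin 3) F) := hc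
    refine ⟨c, ?_, ?_⟩
    · have h2 := (slE F g).2
      rw [h1, Matrix.det_smul, Matrix.det_one, mul_one] at h2
      exact h2
    · show Matrix.scalar (Fin 3) (c : F) = ((slE F g : Matrix.SpecialLinearGroup (Fin 3) F) : Matrix (Fin 3) (Fin 3) F)
      rw [h1, Matrix.smul_one_eq_diagonal]
      rfl
  · rintro ⟨r, hr, hA⟩
    have hr0 : r ≠ 0 := by
      rintro rfl
      simp at hr
    refine ⟨(slE F).symm A, ?_, (slE F).apply_symm_apply A⟩
    refine mem_Zs.2 ⟨Units.mk0 r hr0, ?_⟩
    show (A : Matrix (Fin 3) (Fin 3) F) = r • 1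
    rw [← hA, Matrix.smul_one_eq_diagonal]
    rfl

noncomputable def tqE : Tq (specialLinear (Fin 3) F) ≃* Matrix.ProjectiveSpecialLinearGroup (Fin 3) F :=
  QuotientGroup.congr _ _ (slE F) (slE_map F)

end torus

/-- the Singer torus of `PSL(3, q)` -/
theorem exists_cc {F : Type} [Field F] [Fintype F] {t : ℕ} (ht : Fintype.card F = t + 1) :
    ∃ A : Subgroup (Matrix.ProjectiveSpecialLinearGroup (Fin 3) F), ZeroTI.CC A ∧
      Nat.card A * Nat.gcd 3 t = t ^ 2 + 3 * t + 3 := by
  have ht0 : 0 < t := by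
    have := Fintype.one_lt_card (α := F)
    omega
  obtain ⟨p, hp⟩ := CharP.exists F
  have : Fact p.Prime := ⟨CharP.char_is_prime F p⟩
  let E := FiniteField.Extension F p 3
  have hfr : finrank F E = 3 := FiniteField.finrank_extension F p 3
  have hfd : FiniteDimensional F E := Module.finite_of_finrank_pos (by rw [hfr]; norm_num)
  let b : Basis (Fin 3) F E := finBasisOfFinrankEq F E hfr
  let φ : E →ₐ[F] Matrix (Fin 3) (Fin 3) F := Algebra.leftMulMatrix b
  let L := specialLinear (Fin 3) F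
  have hpr : (finrank F E).Prime := by rw [hfr]; norm_num
  have h3 : 3 ≤ finrank F E := by rw [hfr]
  have hfr' : finrank F E = Fintype.card (Fin 3) := by rw [hfr, Fintype.card_fin]
  have hL : L ≤ specialLinear (Fin 3) F := le_rfl
  have hroot : RootProp φ L := rootProp_SL hpr h3 hfr' hL
  have hU : ∀ u ∈ U1 F E, toGLE φ u ∈ L := by
    intro u hu
    exact (norm_eq_one (φ := φ) hfr' (g := toGLE φ u) (a := (u : E)) rfl).2 (mem_U1.1 hu)
  have hcZ : Nat.card (Zs L) = Nat.gcd (Fintype.card (Fin 3)) (Nat.card F - 1) := by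
    refine card_Zs hL ?_
    intro c hc
    have hc' : ((c : F)) ^ 3 = 1 := by
      have := congrArg Units.val hc
      simpa using this
    refine ⟨Units.map (Matrix.scalar (Fin 3) : F →+* Matrix (Fin 3) (Fin 3) F).toMonoidHom c, ?_, ?_⟩
    · rw [Cfsg.Agent.H873.mem_specialLinear_iff]
      show Matrix.det (Matrix.scalar (Fin 3) (c : F)) = 1
      rw [Matrix.scalar_apply, Matrix.det_diagonal]
      simpa only [_root_.Finset.prod_const, _root_.Finset.card_univ, _root_.Fintype.card_fin] using hc'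
    · show Matrix.scalar (Fin 3) (c : F) = _
      rw [Matrix.smul_one_eq_diagonal]
      rfl
  have hcard := card_Dq hfr' hL hU hcZ
  rw [hfr, Nat.card_eq_fintype_card (α := F), ht, Nat.add_sub_cancel] at hcard
  have hcard' : Nat.card (Dq φ L) * Nat.gcd 3 t = t ^ 2 + 3 * t + 3 := by
    have h4 : (t + 1) ^ 3 - 1 = t * (t ^ 2 + 3 * t + 3) := by
      rw [Nat.sub_eq_iff_eq_add (Nat.one_le_pow _ _ (by omega))]
      ring
    rw [h4] at hcard
    have h5 : t * (Nat.card (Dq φ L) * Nat.gcd 3 t) = t * (t ^ 2 + 3 * t + 3) := by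
      rw [← hcard]
      ring
    exact Nat.eq_of_mul_eq_mul_left ht0 h5
  have hne : ∃ g ∈ L, ∃ a : E, (g : Matrix (Fin 3) (Fin 3) F) = φ a ∧ ∀ z : F, a ≠ algebraMap F E z := by
    by_contra hcon
    push Not at hcon
    have h6 : Dq φ L = ⊥ := by
      rw [Subgroup.eq_bot_iff_forall]
      rintro _ ⟨g, ⟨a, ha⟩, rfl⟩
      obtain ⟨z, hz⟩ := hcon g g.2 a ha
      exact (QuotientGroup.eq_one_iff _).2 ((mem_Zs_iff_of_eq ha).2 ⟨z, hz⟩)
    rw [h6, Subgroup.card_bot, one_mul] at hcard'
    have h7 : Nat.gcd 3 t ≤ 3 := Nat.gcd_le_left _ (by norm_num)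
    linarith only [ht0, hcard', h7, _root_.sq_nonneg (↑t : ℤ)]
  refine ⟨(Dq φ L).map (tqE F).toMonoidHom, cc_map _ (cc_of_cc (cc_Dq hpr hfr' hroot hne)), ?_⟩
  rw [← hcard']
  congr 1
  exact (Nat.card_congr ((Dq φ L).equivMapOfInjective _ (tqE F).injective).toEquiv).symm

section embed

variable (F : Type) [Field F]

/-- `SL(2) → SL(3)` -/
def em : SL(2, F) →* SL(3, F) where
  toFun g := ⟨!![g 0 0, g 0 1, 0; g 1 0, g 1 1, 0; 0, 0, 1], by
    have h := g.det_coe
    rw [Matrix.det_fin_two] at h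
    rw [Matrix.det_fin_three]
    simp
    exact h⟩
  map_one' := by
    apply Subtype.ext
    ext i j
    (revert i j; simp only [_root_.Fin.forall_fin_succ, Fin.isValue, _root_.Matrix.SpecialLinearGroup.coe_one, _root_.Matrix.one_apply_eq, _root_.ne_eq, _root_.zero_ne_one, _root_.not_false_eq_true, _root_.Matrix.one_apply_ne, _root_.one_ne_zero, _root_.Matrix.of_apply, _root_.Matrix.cons_val', _root_.Matrix.cons_val_fin_one, _root_.Matrix.cons_val_zero, _root_.Matrix.cons_val_succ, _root_.IsEmpty.forall_iff, _root_.and_true, Nat.reduceAdd, _root_.Fin.succ_zero_eq_one, _root_.Fin.succ_one_eq_two, Fin.reduceEq, _root_.and_self, _root_.Fin.succ_ne_zero, _root_.true_and])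
  map_mul' g h := by
    apply Subtype.ext
    change _ = (!![g 0 0, g 0 1, 0; g 1 0, g 1 1, 0; 0, 0, 1] : Matrix (Fin 3) (Fin 3) F) *
      !![h 0 0, h 0 1, 0; h 1 0, h 1 1, 0; 0, 0, 1]
    ext i j
    (revert i j; simp only [Matrix.mul_apply, Fin.sum_univ_three, Fin.sum_univ_two, _root_.Fin.forall_fin_succ, Fin.isValue, _root_.Matrix.SpecialLinearGroup.coe_mul, _root_.Matrix.of_apply, _root_.Matrix.cons_val', _root_.Matrix.cons_val_fin_one, _root_.Matrix.cons_val_zero, _root_.Matrix.cons_val_one, _root_.Matrix.cons_val, _root_.MulZeroClass.mul_zero, _root_.add_zero, _root_.Matrix.cons_val_succ, _root_.mul_one, _root_.zero_add, _root_.implies_true, _root_.and_true, _root_.and_self, _root_.MulZeroClass.zero_mul])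

noncomputable def emP : SL(2, F) →* Matrix.ProjectiveSpecialLinearGroup (Fin 3) F :=
  (QuotientGroup.mk' _).comp (em F)

theorem emP_injective : Function.Injective (emP F) := by
  rw [injective_iff_map_eq_one]
  intro g hg
  have h1 : em F g ∈ Subgroup.center (Matrix.SpecialLinearGroup (Fin 3) F) :=
    (QuotientGroup.eq_one_iff _).1 hg
  obtain ⟨r, -, hr⟩ := Matrix.SpecialLinearGroup.mem_center_iff.1 h1
  have e : ∀ i j, Matrix.scalar (Fin 3) r i j = (em F g : Matrix (Fin 3) (Fin 3) F) i j :=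
    fun i j => by rw [hr]
  have e22 : r = 1 := e 2 2
  subst e22
  have e00 : (1 : F) = g 0 0 := e 0 0
  have e01 : (0 : F) = g 0 1 := e 0 1
  have e10 : (0 : F) = g 1 0 := e 1 0
  have e11 : (1 : F) = g 1 1 := e 1 1
  apply Subtype.ext
  ext i j
  fin_cases i <;> fin_cases j
  · exact e00.symm
  · exact e01.symm
  · exact e10.symm
  · exact e11.symm

theorem orderOf_emP (g : SL(2, F)) : orderOf (emP F g) = orderOf g :=
  orderOf_injective _ (emP_injective F) g

end embed

/-- general `q` -/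
theorem big_gen {F : Type} [Field F] [Fintype F] {t : ℕ} (ht : Fintype.card F = t + 1) (h4 : 4 ≤ t)
    (h6 : t ≠ 6) : Big (Matrix.ProjectiveSpecialLinearGroup (Fin 3) F) := by
  classical
  obtain ⟨A, hA, hcard⟩ := exists_cc ht
  have hG := Cfsg.Agent.HKS.EndOrd.card_psl_three ht
  set a := Nat.card A with ha
  set g := Nat.gcd 3 t with hg
  have hg0 : 0 < g := Nat.gcd_pos_of_pos_left _ (by norm_num)
  have hg3 : g = 1 ∨ g = 3 := (Nat.dvd_prime Nat.prime_three).1 (Nat.gcd_dvd_left 3 t)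
  have hn : Nat.card (Matrix.ProjectiveSpecialLinearGroup (Fin 3) F) =
      a * ((t + 1) ^ 3 * (t ^ 2 * (t + 2))) := by
    rw [← hcard] at hG
    have : g * Nat.card (Matrix.ProjectiveSpecialLinearGroup (Fin 3) F) =
        g * (a * ((t + 1) ^ 3 * (t ^ 2 * (t + 2)))) := by rw [hG]; ring
    exact Nat.eq_of_mul_eq_mul_left hg0 this
  obtain ⟨m, hm, hm9⟩ : ∃ m, a = 3 * m + 1 ∧ 9 ≤ m := by
    rcases hg3 with h | h
    · rw [h, mul_one] at hcard
      have h3 : ¬ 3 ∣ t := by
        intro h3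
        have := Nat.gcd_eq_left h3
        omega
      have h5 : t % 3 = 1 ∨ t % 3 = 2 := by omega
      rcases h5 with h5 | h5
      · obtain ⟨u, hu⟩ : ∃ u, t = 3 * u + 1 := ⟨t / 3, by omega⟩
        refine ⟨(t + 1) * (u + 1), ?_, ?_⟩
        · rw [hcard, hu]; ring
        · have : 1 ≤ u := by omega
          nlinarith only [h4, hu]
      · obtain ⟨u, hu⟩ : ∃ u, t = 3 * u + 2 := ⟨t / 3, by omega⟩
        refine ⟨(u + 1) * (t + 2), ?_, ?_⟩
        · rw [hcard, hu]; ring
        · have : 1 ≤ u := by omega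
          nlinarith only [hu, this]
    · obtain ⟨u, hu⟩ : 3 ∣ t := h ▸ Nat.gcd_dvd_right 3 t
      refine ⟨u ^ 2 + u, ?_, ?_⟩
      · have : a * 3 = 3 * (3 * (u ^ 2 + u) + 1) := by
          rw [← h, hcard, hu, h]; ring
        omega
      · have : 3 ≤ u := by omega
        nlinarith only [this]
  have hmod : ((t + 1) ^ 3 * (t ^ 2 * (t + 2))) % a = 3 := by
    obtain ⟨r, rfl⟩ : ∃ r, t = r + 1 := ⟨t - 1, by omega⟩
    have : (r + 1 + 1) ^ 3 * ((r + 1) ^ 2 * (r + 1 + 2)) =
        3 + a * (g * ((r + 1) * ((r + 1) ^ 2 * (r + 1 + 2)) + r)) := by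
      have e : a * (g * ((r + 1) * ((r + 1) ^ 2 * (r + 1 + 2)) + r)) =
        (a * g) * ((r + 1) * ((r + 1) ^ 2 * (r + 1 + 2)) + r) := by ring
      rw [e, hcard]
      ring
    rw [this, Nat.add_mul_mod_self_left, Nat.mod_eq_of_lt (by omega)]
  have hodd : ¬ 2 ∣ a := by
    intro h2
    have h7 : 2 ∣ t ^ 2 + 3 * t + 3 := by
      rw [← hcard]; exact Dvd.dvd.mul_right h2 g
    have h8 : t ^ 2 + 3 * t + 3 = 2 * ((t ^ 2 + 3 * t) / 2 + 1) + 1 := by
      have : (t ^ 2 + 3 * t) % 2 = 0 := by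
        have : t ^ 2 + 3 * t = t * (t + 3) := by ring
        rw [this]
        rcases Nat.even_or_odd t with h | h
        · exact Nat.even_iff.1 (h.mul_right _)
        · exact Nat.even_iff.1 ((h.add_odd (by decide)).mul_left _)
      omega
    omega
  refine big_of_index_orders hA ha.symm hn hmod (m := m) (by omega) hm (by omega)
    {1, 2, t, t + 2} ?_ ?_ ?_
  · intro k hk
    simp only [Finset.mem_insert, Finset.mem_singleton] at hk
    rcases hk with rfl | rfl | rfl | rfl
    · exact ⟨1, orderOf_one⟩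
    · have : Fact (Nat.Prime 2) := ⟨Nat.prime_two⟩
      refine exists_prime_orderOf_dvd_card' 2 ?_
      rw [hn]
      apply Dvd.dvd.mul_left
      rcases Nat.even_or_odd t with h | h
      · exact Dvd.dvd.mul_left (Dvd.dvd.mul_right (Dvd.dvd.pow h.two_dvd (by norm_num)) _) _
      · exact Dvd.dvd.mul_right (Dvd.dvd.pow (h.add_odd (by decide)).two_dvd (by norm_num)) _
    · obtain ⟨x, hx⟩ := IsCyclic.exists_ofOrder_eq_natCard (α := Fˣ)
      rw [Nat.card_units, Nat.card_eq_fintype_card, ht, Nat.add_sub_cancel] at hx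
      refine ⟨emP F (Cfsg.Agent.Walter.MetaPSL.diagHom F x), ?_⟩
      rw [orderOf_emP, ← hx]
      refine orderOf_injective (Cfsg.Agent.Walter.MetaPSL.diagHom F) ?_ x
      intro y z hyz
      apply Units.ext
      exact congrArg (fun g : SL(2, F) => (g : Matrix (Fin 2) (Fin 2) F) 0 0) hyz
    · obtain ⟨x, -, hx, -⟩ := Cfsg.Agent.ClassicalGeometry.NonsplitTorus.exists_torus_TI F
      exact ⟨emP F x, by rw [orderOf_emP, hx, ht]⟩
  · intro k hk
    simp only [Finset.mem_insert, Finset.mem_singleton] at hk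
    rcases hk with rfl | rfl | rfl | rfl
    · exact Or.inl rfl
    · exact Or.inr hodd
    · right
      intro h
      have h1 : k ∣ k ^ 2 + 3 * k + 3 := by
        rw [← hcard]; exact Dvd.dvd.mul_right h g
      have h2 : k ∣ 3 := by
        have : k ∣ k ^ 2 + 3 * k := ⟨k + 3, by ring⟩
        exact (Nat.dvd_add_right this).1 h1
      have := Nat.le_of_dvd (by norm_num) h2
      omega
    · right
      intro h
      have h1 : t + 2 ∣ t ^ 2 + 3 * t + 3 := by
        rw [← hcard]; exact Dvd.dvd.mul_right h g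
      have h2 : t + 2 ∣ 1 := by
        have h3 : t + 2 ∣ (t + 2) * (t + 1) := ⟨t + 1, rfl⟩
        have h4 : t ^ 2 + 3 * t + 3 = (t + 2) * (t + 1) + 1 := by ring
        rw [h4] at h1
        exact (Nat.dvd_add_right h3).1 h1
      have := Nat.le_of_dvd (by norm_num) h2
      omega
  · have hc : ({1, 2, t, t + 2} : Finset ℕ).card = 4 := by
      rw [Finset.card_insert_of_notMem, Finset.card_insert_of_notMem, Finset.card_insert_of_notMem,
        Finset.card_singleton]
      all_goals simp; try omega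
    rw [hc]
    (clear * - hm9; omega)

theorem hn_of {F : Type} [Field F] [Fintype F] {t : ℕ} (ht : Fintype.card F = t + 1)
    {a : ℕ} (ha : a * Nat.gcd 3 t = t ^ 2 + 3 * t + 3) :
    Nat.card (Matrix.ProjectiveSpecialLinearGroup (Fin 3) F) =
      a * ((t + 1) ^ 3 * (t ^ 2 * (t + 2))) := by
  have hG := Cfsg.Agent.HKS.EndOrd.card_psl_three ht
  have hg0 : 0 < Nat.gcd 3 t := Nat.gcd_pos_of_pos_left _ (by norm_num)
  rw [← ha] at hG
  have : Nat.gcd 3 t * Nat.card (Matrix.ProjectiveSpecialLinearGroup (Fin 3) F) =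
      Nat.gcd 3 t * (a * ((t + 1) ^ 3 * (t ^ 2 * (t + 2)))) := by rw [hG]; ring
  exact Nat.eq_of_mul_eq_mul_left hg0 this

theorem big_three {F : Type} [Field F] [Fintype F] (h : Fintype.card F = 3) :
    Big (Matrix.ProjectiveSpecialLinearGroup (Fin 3) F) := by
  obtain ⟨A, hA, hcard⟩ := exists_cc (t := 2) h
  have hn := hn_of (t := 2) h hcard
  have ha : Nat.card A = 13 := by
    norm_num only [_root_.mul_one] at hcard
    exact hcard
  rw [ha] at hn
  exact big_of_index hA ha hn (e := 3) (m := 4) (k := 12) (by norm_num) (by norm_num) (by norm_num)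
    (by norm_num) (Cfsg.Agent.H93.Classical.twelve_le_psl 3 le_rfl (by omega) (by omega)) (by norm_num)

theorem big_seven {F : Type} [Field F] [Fintype F] (h : Fintype.card F = 7) :
    Big (Matrix.ProjectiveSpecialLinearGroup (Fin 3) F) := by
  obtain ⟨A, hA, hcard⟩ := exists_cc (t := 6) h
  have hn := hn_of (t := 6) h hcard
  have ha : Nat.card A = 19 := by
    norm_num only [] at hcard
    omega
  rw [ha] at hn
  exact big_of_index hA ha hn (e := 3) (m := 6) (k := 12) (by norm_num) (by norm_num) (by norm_num)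
    (by norm_num) (Cfsg.Agent.H93.Classical.twelve_le_psl 3 le_rfl (by omega) (by omega)) (by norm_num)

theorem exists_pow {F : Type} [Field F] [Fintype F] (hF : Fintype.card F = 4)
    (g : Matrix.ProjectiveSpecialLinearGroup (Fin 3) F) :
    ∃ k : ℕ, (k = 3 ∨ k = 4 ∨ k = 5 ∨ k = 7) ∧ g ^ k = 1 := by
  obtain ⟨A, rfl⟩ := QuotientGroup.mk_surjective g
  obtain ⟨k, hk, c, hc⟩ := Cfsg.Agent.S0819.key hF (A : Matrix (Fin 3) (Fin 3) F) A.2
  have hcen : A ^ k ∈ Subgroup.center (Matrix.SpecialLinearGroup (Fin 3) F) := by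
    rw [Subgroup.mem_center_iff]
    intro B
    apply Subtype.ext
    rw [Matrix.SpecialLinearGroup.coe_mul, Matrix.SpecialLinearGroup.coe_mul,
      Matrix.SpecialLinearGroup.coe_pow, hc]
    simp
  refine ⟨k, hk, ?_⟩
  rw [← QuotientGroup.mk_pow]
  exact (QuotientGroup.eq_one_iff _).2 hcen

theorem exists_isolated {F : Type} [Field F] [Fintype F] (hF : Fintype.card F = 4)
    (hG : Nat.card (Matrix.ProjectiveSpecialLinearGroup (Fin 3) F) = 20160) {r : ℕ}
    (hr : r = 5 ∨ r = 7) : ∃ x : Matrix.ProjectiveSpecialLinearGroup (Fin 3) F, orderOf x = r ∧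
      Nat.card (Subgroup.centralizer ({x} : Set (Matrix.ProjectiveSpecialLinearGroup (Fin 3) F))) = r := by
  have hrp : r.Prime := by rcases hr with rfl | rfl <;> norm_num
  have : Fact r.Prime := ⟨hrp⟩
  obtain ⟨x, hx⟩ := exists_prime_orderOf_dvd_card' (G := Matrix.ProjectiveSpecialLinearGroup (Fin 3) F) r
    (by rw [hG]; rcases hr with rfl | rfl <;> norm_num)
  refine ⟨x, hx, ?_⟩
  set C := Subgroup.centralizer ({x} : Set (Matrix.ProjectiveSpecialLinearGroup (Fin 3) F)) with hC
  have hxC : x ∈ C := by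
    rw [hC, Subgroup.mem_centralizer_iff]
    intro y hy
    rw [Set.mem_singleton_iff] at hy
    rw [hy]
  have h1 : r ∣ Nat.card C := by
    have := orderOf_dvd_natCard (⟨x, hxC⟩ : C)
    rwa [← Subgroup.orderOf_coe, hx] at this
  have h2 : Nat.card C ∣ 20160 := hG ▸ Subgroup.card_subgroup_dvd_card C
  have h3 : ∀ s : ℕ, s.Prime → s ∣ Nat.card C → s = r := by
    intro s hs hsd
    by_contra hne
    have : Fact s.Prime := ⟨hs⟩
    obtain ⟨y, hy⟩ := exists_prime_orderOf_dvd_card' (G := C) s hsd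
    have hyo : orderOf (y : Matrix.ProjectiveSpecialLinearGroup (Fin 3) F) = s := by
      rw [Subgroup.orderOf_coe, hy]
    have hcom : Commute x (y : Matrix.ProjectiveSpecialLinearGroup (Fin 3) F) := by
      exact Subgroup.mem_centralizer_iff.1 y.2 x rfl
    have ho := hcom.orderOf_mul_eq_mul_orderOf_of_coprime (by
      rw [hx, hyo]; exact (Nat.coprime_primes hrp hs).2 (Ne.symm hne))
    obtain ⟨k, hk, hxk⟩ := exists_pow hF (x * (y : Matrix.ProjectiveSpecialLinearGroup (Fin 3) F))
    have h4 := orderOf_dvd_of_pow_eq_one hxk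
    rw [ho, hx, hyo] at h4
    have h5 : r ∣ k := (Dvd.intro _ rfl).trans h4
    have hs2 := hs.two_le
    have h6 : k = r := by
      rcases hr with rfl | rfl <;> rcases hk with rfl | rfl | rfl | rfl <;> first | rfl | omega
    rw [h6] at h4
    have h7 := Nat.le_of_dvd hrp.pos h4
    have := hrp.two_le
    nlinarith only [hs2, h7, this]
  have h4 := (Nat.eq_prime_pow_of_unique_prime_dvd Nat.card_pos.ne' fun {d} hd hdc => h3 d hd hdc)
  obtain ⟨j, hj⟩ : ∃ j, Nat.card C = r ^ j := ⟨_, h4⟩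
  rw [hj] at h1 h2 ⊢
  have hj0 : j ≠ 0 := by
    rintro rfl
    rw [pow_zero] at h1
    exact hrp.one_lt.ne' (Nat.dvd_one.1 h1)
  have hj1 : j < 2 := by
    by_contra hj2
    have h5 : r ^ 2 ∣ 20160 := (pow_dvd_pow r (by omega)).trans h2
    rcases hr with rfl | rfl <;> norm_num at h5
  have : j = 1 := by omega
  rw [this, pow_one]

theorem big_four {F : Type} [Field F] [Fintype F] (h : Fintype.card F = 4) :
    Big (Matrix.ProjectiveSpecialLinearGroup (Fin 3) F) := by
  obtain ⟨A, hA, hcard⟩ := exists_cc (t := 3) h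
  have hn := hn_of (t := 3) h hcard
  have ha : Nat.card A = 7 := by
    norm_num only [] at hcard
    omega
  rw [ha] at hn
  norm_num at hn
  obtain ⟨x, hx, hxc⟩ := exists_isolated h hn (Or.inl rfl)
  obtain ⟨y, hy, hyc⟩ := exists_isolated h hn (Or.inr rfl)
  exact big_of_isolated2 (n := 4032) (e := 2) (m := 2) (n' := 2880) (e' := 3) (m' := 2) (k := 10)
    (by norm_num) hx hxc (by rw [hn]) (by norm_num) le_rfl (by norm_num) (by norm_num) hy hyc
    (by rw [hn]) (by norm_num) le_rfl (by norm_num) (by norm_num)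
    (Cfsg.Agent.H93.LThreeFour.card_eq_ten h).ge (by norm_num)

/-- **`PSL(3, q)`, `q ≥ 3`.** -/
theorem big_psl3 {F : Type} [Field F] [Fintype F] (h : 3 ≤ Fintype.card F) :
    Big (Matrix.ProjectiveSpecialLinearGroup (Fin 3) F) := by
  by_cases h3 : Fintype.card F = 3
  · exact big_three h3
  by_cases h4 : Fintype.card F = 4
  · exact big_four h4
  by_cases h7 : Fintype.card F = 7
  · exact big_seven h7
  obtain ⟨t, ht⟩ : ∃ t, Fintype.card F = t + 1 := ⟨Fintype.card F - 1, by omega⟩
  exact big_gen ht (by omega) (by omega)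

end Cfsg.Agent.H681.ZerosPSL3

private theorem dce_af9babbd5337 : _root_.True := by
  try have : _root_.True := by simp only [_root_.Cfsg.Agent.H926.Cc.Dq.congr_simp]
  exact _root_.True.intro
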